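import Mathlib
import Cfsg.Agent.Lib.Helper70.AB.Defs

set_option autoImplicit false

namespace Cfsg.Agent.Lib.Helper35.AB

open Cfsg.Agent.Lib.Helper70.AB

universe u v

/-- CARD -/
theorem card_compl (A : Type u) [Group A] {Ω : Type v} [Fintype Ω] [MulAction A Ω] (ω : Ω) :
    Nat.card (compl A ω) + Nat.card (MulAction.orbit A ω) = Fintype.card Ω := by
  classical
  have h1 : Nat.card (compl A ω) = Nat.card ((MulAction.orbit A ω)ᶜ : Set Ω) := rfl
  rw [h1, add_comm, ← Nat.card_eq_fintype_card]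
  exact Nat.card_congr (Equiv.Set.sumCompl (MulAction.orbit A ω)) ▸ (Nat.card_sum).symm

end Cfsg.Agent.Lib.Helper35.AB
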