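import Mathlib
import Cfsg.Agent.Lib.Helper70.AB.Defs

set_option autoImplicit false

namespace Cfsg.Agent.Lib.Helper35.AB

open Cfsg.Agent.Lib.Helper70.AB

universe u v

/-- FAITH -/
theorem faith (A : Type u) [CommGroup A] {Ω : Type v} [MulAction A Ω] [FaithfulSMul A Ω] (ω : Ω) :
    FaithfulSMul (MulAction.stabilizer A ω) (compl A ω) := by
  constructor
  intro b c h
  apply Subtype.ext
  apply FaithfulSMul.eq_of_smul_eq_smul (α := Ω)
  intro x
  by_cases hx : x ∈ MulAction.orbit A ω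
  · obtain ⟨a, rfl⟩ := hx
    have hb : b.1 • ω = ω := b.2
    have hc : c.1 • ω = ω := c.2
    show b.1 • a • ω = c.1 • a • ω
    rw [smul_comm b.1 a ω, smul_comm c.1 a ω, hb, hc]
  · have := h ⟨x, hx⟩
    exact congrArg Subtype.val this

end Cfsg.Agent.Lib.Helper35.AB
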