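import Mathlib

set_option autoImplicit false

namespace Cfsg.Agent.Lib.Helper35.AB

universe u v

/-- MOVE -/
theorem move (p : ℕ) (hp : p.Prime) (A : Type u) [CommGroup A] [Finite A] {Ω : Type v} [MulAction A Ω]
    [FaithfulSMul A Ω] (k : ℕ) (hk0 : 1 ≤ k) (hk : Nat.card {x : A // x ^ p = 1} = p ^ k) :
    ∃ (z : A) (ω : Ω), z ^ p = 1 ∧ z • ω ≠ ω := by
  have h1 : 1 < Nat.card {x : A // x ^ p = 1} := by
    rw [hk]; exact Nat.one_lt_pow (by omega) hp.one_lt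
  have : Finite {x : A // x ^ p = 1} := inferInstance
  obtain ⟨x, y, hxy⟩ := (Finite.one_lt_card_iff_nontrivial.mp h1).exists_pair_ne
  obtain ⟨z, hz, hz1⟩ : ∃ z : A, z ^ p = 1 ∧ z ≠ 1 := by
    by_cases hx : x.1 = 1
    · refine ⟨y.1, y.2, ?_⟩
      intro hy
      exact hxy (Subtype.ext (hx.trans hy.symm))
    · exact ⟨x.1, x.2, hx⟩
  by_contra hcon
  push Not at hcon
  apply hz1
  apply FaithfulSMul.eq_of_smul_eq_smul (α := Ω)
  intro ω
  rw [one_smul]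
  exact hcon z ω hz

end Cfsg.Agent.Lib.Helper35.AB
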