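import Mathlib

set_option autoImplicit false

namespace Cfsg.Agent.Lib.Helper35.AB

universe u v

/-- RANK -/
theorem rank (p : ℕ) (hp : p.Prime) (A : Type u) [CommGroup A] [Finite A] (hA : IsPGroup p A)
    (B : Subgroup A) (z : A) (hz : z ^ p = 1) (hzB : z ∉ B)
    (k : ℕ) (hk : Nat.card {x : A // x ^ p = 1} = p ^ k) :
    ∃ l t : ℕ, 1 ≤ t ∧ k = t + l ∧ Nat.card {x : B // x ^ p = 1} = p ^ l ∧ p ^ t ≤ B.index := by
  let W : Subgroup A := (powMonoidHom p : A →* A).ker
  have hW : ∀ a : A, a ∈ W ↔ a ^ p = 1 := fun a => by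
    simp [W, MonoidHom.mem_ker]
  have cW : Nat.card W = p ^ k := by
    rw [← hk]
    exact Nat.card_congr (Equiv.subtypeEquivRight hW)
  let e : (B.subgroupOf W) ≃ {x : B // x ^ p = 1} :=
    { toFun := fun w => ⟨⟨w.1.1, Subgroup.mem_subgroupOf.mp w.2⟩, Subtype.ext ((hW w.1.1).mp w.1.2)⟩
      invFun := fun x => ⟨⟨x.1.1, (hW x.1.1).mpr (congrArg Subtype.val x.2)⟩, Subgroup.mem_subgroupOf.mpr x.1.2⟩
      left_inv := fun _ => rfl
      right_inv := fun _ => rfl }
  have cB : Nat.card (B.subgroupOf W) = Nat.card {x : B // x ^ p = 1} := Nat.card_congr e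
  have hmul : Nat.card {x : B // x ^ p = 1} * B.relIndex W = p ^ k := by
    rw [← cB, ← cW]
    exact Subgroup.card_mul_index (B.subgroupOf W)
  obtain ⟨l, hl, hNl⟩ := (Nat.dvd_prime_pow hp).mp (Dvd.intro _ hmul)
  have hrel : B.relIndex W = p ^ (k - l) := by
    have h1 : p ^ l * B.relIndex W = p ^ l * p ^ (k - l) := by
      rw [← hNl, hmul, hNl, ← pow_add]; congr 1; omega
    exact Nat.eq_of_mul_eq_mul_left (pow_pos hp.pos l) h1
  have hne : B.relIndex W ≠ 1 := by
    intro h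
    exact hzB ((Subgroup.relIndex_eq_one.mp h) ((hW z).mpr hz))
  have hlt : l < k := by
    rcases Nat.lt_or_ge l k with h | h
    · exact h
    · exfalso; apply hne; rw [hrel, Nat.sub_eq_zero_of_le h, pow_zero]
  refine ⟨l, k - l, by omega, by omega, hNl, ?_⟩
  rw [← hrel]
  exact Nat.le_of_dvd (Nat.pos_of_ne_zero Subgroup.index_ne_zero_of_finite) (Subgroup.relIndex_dvd_index_of_normal B W)

end Cfsg.Agent.Lib.Helper35.AB
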