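import Cfsg.Agent.Lib.Helper35.CoxIface

/-! Bundled certificates and the assembled index theorem for Coxeter-style presentations. -/

namespace Cfsg.Agent.Lib.Helper35

open Cfsg.Spor

/-- A bundled coset enumeration certificate. -/
structure CertData (C : Nat) (inv : Nat → Nat) (R S : List (List Nat)) (n : Nat) where
  P : Par
  hP : P.WF
  tabs : Nat → Nat
  N : Nat
  trees : Nat → RTree (walk P tabs)
  je : Nat → Nat → Nat
  pe : Nat → Nat
  rb : Nat
  mR : Nat
  cK : Nat
  hcK : C < cK
  htree : ∀ l, l ≤ C → treeChk inv C (fullBases C inv R) (fullSub inv S) l (trees l) = true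
  hN : N < 2 ^ P.tb
  hN1 : 1 ≤ N
  hlo : ∀ l, l ≤ C → Nat.land (tabs l) P.mE = 0
  hhi : ∀ l, l ≤ C → Nat.shiftRight (tabs l) (P.M * (N + 1)) = 0
  hz : ∀ l, C < l → tabs l = 0
  hcol : ∀ l, l < C → allSlots (chkSlot P (tabs l) (je l) pe rb mR cK (deadF P (tabs C))
      (fun _ => N) (trees l) l) N = true
  heps : allSlots (chkSlot P (tabs C) (je C) pe rb mR cK (fun _ => true)
      (fun v => Nat.pred v) (trees C) C) N = true
  hcount : countSlots (liveF P (tabs C)) N = n

theorem card_le_of_cert {G : Type} [Group G] (I : PresIface G) (H : Subgroup G) (S : List (List Nat))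
    (hH1 : ∀ s ∈ S, wval I.val s ∈ H) (n : Nat) (D : CertData I.C I.inv I.R S n) :
    Finite (G ⧸ H) ∧ Nat.card (G ⧸ H) ≤ n :=
  card_quot_le H D.P D.hP D.tabs I.C D.N n I.inv I.val I.hval1 I.hinv I.hgen
    (fullBases I.C I.inv I.R) (fullSub I.inv S)
    (wval_fullBases I.C I.inv I.val I.hinv I.R I.hR)
    (wval_fullSub H I.inv I.val I.hinv S hH1)
    D.trees D.je D.pe D.rb D.mR D.cK D.hcK D.htree D.hN D.hN1 D.hlo D.hhi D.hz D.hcol D.heps D.hcount

/-- index from the two certificates, for the subgroup generated by the words of `S`. -/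
theorem index_of_certs {G : Type} [Group G] (I : PresIface G) (H : Subgroup G) (S : List (List Nat))
    (hH : H = Subgroup.closure {g | ∃ s ∈ S, wval I.val s = g}) (n : Nat)
    (PD : PermData I.C I.inv I.R S n) (CD : CertData I.C I.inv I.R S (n + 1)) : H.index = n + 1 := by
  have h1 : ∀ s ∈ S, wval I.val s ∈ H := by
    intro s hs
    rw [hH]
    exact Subgroup.subset_closure ⟨s, hs, rfl⟩
  obtain ⟨hfin, hle⟩ := card_le_of_cert I H S h1 (n + 1) CD
  exact index_eq_of_data I H S (le_of_eq hH) n PD hfin hle

section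

variable {α : Type} [DecidableEq α] (edges : List (α × ℕ × α)) (extra : List (FreeGroup α))
  (D : CoxCols α) (extraL : List (List (α × Bool)))
  (R : List (List Nat)) (allGens : List α) (hall : ∀ a, a ∈ allGens) (hD : D.OK edges extraL R allGens)
  (hextra : extra = extraL.map FreeGroup.mk)

include hall hD hextra in
lemma coxVal_word (L : List (α × Bool)) :
    wval (coxVal edges extra D) (L.map D.colOf) =
      PresentedGroup.mk (coxRelators edges ∪ {r | r ∈ extra}) (FreeGroup.mk L) := by
  have hinv : ∀ c, coxVal edges extra D (D.inv c) = (coxVal edges extra D c)⁻¹ :=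
    (coxIface edges extra D extraL R allGens hall hD hextra).hinv
  rw [mk_eq_lift, ← lift_mk_eq_wval D _ hinv]
  congr 2
  funext a
  unfold coxVal
  rw [hD.c2 a (hall a)]
  rfl

include hall hD hextra in
/-- the subgroup of the statement, in terms of column words -/
lemma cox_map_closure (X : Set (FreeGroup α)) (SL : List (List (α × Bool)))
    (hX : X = {x | x ∈ SL.map FreeGroup.mk}) :
    (Subgroup.closure X).map (PresentedGroup.mk (coxRelators edges ∪ {r | r ∈ extra})) =
      Subgroup.closure {g | ∃ s ∈ SL.map (List.map D.colOf),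
        wval (coxIface edges extra D extraL R allGens hall hD hextra).val s = g} := by
  rw [MonoidHom.map_closure, hX]
  congr 1
  ext g
  simp only [Set.mem_image, Set.mem_ofPred_eq, List.mem_map]
  constructor
  · rintro ⟨_, ⟨L, hL, rfl⟩, rfl⟩
    exact ⟨_, ⟨L, hL, rfl⟩, coxVal_word edges extra D extraL R allGens hall hD hextra L⟩
  · rintro ⟨_, ⟨L, hL, rfl⟩, rfl⟩
    exact ⟨_, ⟨L, hL, rfl⟩, (coxVal_word edges extra D extraL R allGens hall hD hextra L).symm⟩

include hall hD hextra in
/-- The final index theorem. -/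
theorem cox_index (X : Set (FreeGroup α)) (SL : List (List (α × Bool)))
    (hX : X = {x | x ∈ SL.map FreeGroup.mk}) (S : List (List Nat)) (hS : S = SL.map (List.map D.colOf))
    (n : Nat) (PD : PermData D.C D.inv R S n) (CD : CertData D.C D.inv R S (n + 1)) :
    ((Subgroup.closure X).map (PresentedGroup.mk (coxRelators edges ∪ {r | r ∈ extra}))).index = n + 1 := by
  subst hS
  exact index_of_certs (coxIface edges extra D extraL R allGens hall hD hextra) _ _
    (cox_map_closure edges extra D extraL R allGens hall hD hextra X SL hX) n PD CD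

end

end Cfsg.Agent.Lib.Helper35
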