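import Cfsg.Agent.Lib.Helper35.Simple

/-! Assembly: order and simplicity of a presented group from two permutation representations. -/

namespace Cfsg.Agent.Lib.Helper35

lemma PermData.pv_eq_one {C : Nat} {inv : Nat → Nat} {R S : List (List Nat)} {n : Nat} (D : PermData C inv R S n)
    (b : List Nat) (hb : ∀ c ∈ b, c < C) (h : ∀ i, i < n + 1 → pwalk D.pt b i = i) : wval D.pv b = 1 :=
  wval_permVal_eq_one _ _ _ _ _ _ _ b hb h

def repW (p : Nat) (w : List Nat) : List Nat := (List.replicate p w).flatten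

lemma wval_repW {G : Type*} [Group G] (val : Nat → G) (p : Nat) (w : List Nat) :
    wval val (repW p w) = (wval val w) ^ p := by
  induction p with
  | zero => simp [repW]
  | succ p ih =>
    unfold repW at ih ⊢
    rw [List.replicate_succ, List.flatten_cons, wval_append, ih, pow_succ']

lemma mem_repW (p : Nat) (w : List Nat) (c : Nat) (hc : c ∈ repW p w) : c ∈ w := by
  unfold repW at hc
  rw [List.mem_flatten] at hc
  obtain ⟨l, hl, hcl⟩ := hc
  rw [List.eq_of_mem_replicate hl] at hcl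
  exact hcl

section prod

variable {C : Nat} {inv : Nat → Nat} {R S1 S2 : List (List Nat)} {n1 n2 : Nat}
  (D1 : PermData C inv R S1 n1) (D2 : PermData C inv R S2 n2)

def prodVal (c : Nat) : Equiv.Perm (Fin (n1 + 1)) × Equiv.Perm (Fin (n2 + 1)) := (D1.pv c, D2.pv c)

lemma wval_prodVal (W : List Nat) : wval (prodVal D1 D2) W = (wval D1.pv W, wval D2.pv W) := by
  induction W with
  | nil => rfl
  | cons c W ih => rw [wval_cons, wval_cons, wval_cons, ih]; rfl

end prod

theorem exists_prod_hom {G : Type} [Group G] (I : PresIface G) {S1 S2 : List (List Nat)} {n1 n2 : Nat}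
    (D1 : PermData I.C I.inv I.R S1 n1) (D2 : PermData I.C I.inv I.R S2 n2) :
    ∃ Φ : G →* Equiv.Perm (Fin (n1 + 1)) × Equiv.Perm (Fin (n2 + 1)), ∀ c, Φ (I.val c) = prodVal D1 D2 c := by
  apply I.lift (prodVal D1 D2)
  · intro c hc
    exact Prod.ext (D1.pv_one c hc) (D2.pv_one c hc)
  · intro c
    exact Prod.ext (D1.pv_inv c) (D2.pv_inv c)
  · intro b hb
    rw [wval_prodVal, D1.pv_rel b hb, D2.pv_rel b hb]
    rfl

/-- dichotomy for normal subgroups from orbit data -/
theorem dichotomy_of_orbData {G : Type} [Group G] (I : PresIface G) {S : List (List Nat)} {n : Nat}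
    (D : PermData I.C I.inv I.R S n) (O : OrbData D)
    (φ : G →* Equiv.Perm (Fin (n + 1))) (hφ : ∀ c, φ (I.val c) = D.pv c)
    (r : Nat) (cnt : Nat → Nat)
    (hcnt : ∀ k, k < r → countBelow (fun j => Nat.beq (O.lab j) k) (n + 1) = cnt k)
    (hsum : ∑ k ∈ Finset.range r, cnt k = n + 1)
    (hnum : ∀ J ∈ (Finset.range r).powerset, (∑ k ∈ J, cnt k) ∣ (n + 1) →
      (∑ k ∈ J, cnt k) ≤ 1 ∨ (∑ k ∈ J, cnt k) = n + 1)
    (N : Subgroup G) [hN : N.Normal] : (∀ g ∈ N, φ g = 1) ∨ (∀ i, ∃ g ∈ N, φ g 0 = i) := by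
  classical
  have hmap : (wsub I.val S).map φ = OrbData.A (D := D) := map_wsub φ I.val D.pv hφ S
  have hA0 : ∀ a ∈ OrbData.A (D := D), a 0 = 0 := by
    intro a ha
    induction ha using Subgroup.closure_induction with
    | mem g hg =>
      obtain ⟨s, hs, rfl⟩ := hg
      have := D.pv_sub s hs
      rw [Equiv.Perm.inv_eq_iff_eq] at this
      exact this.symm
    | one => simp
    | mul a b _ _ iha ihb => rw [Equiv.Perm.mul_apply, ihb, iha]
    | inv a _ iha => rw [Equiv.Perm.inv_eq_iff_eq, iha]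
  have htrans : ∀ i, ∃ g, φ g 0 = i := by
    intro i
    obtain ⟨W, hW⟩ := D.pv_reach i
    refine ⟨(wval I.val W)⁻¹, ?_⟩
    rw [map_inv, map_wval φ I.val D.pv hφ]
    exact hW
  have hcnt' : ∀ k, k < r →
      ((Finset.univ : Finset (Fin (n + 1))).filter (fun i => O.lab i.1 = k)).card = cnt k := by
    intro k hk
    rw [← hcnt k hk, countBelow_spec, ← Finset.card_map Fin.valEmbedding]
    congr 1
    ext v
    simp only [Finset.mem_filter, Finset.mem_range, Finset.mem_map, Finset.mem_univ, true_and,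
      Fin.valEmbedding_apply]
    constructor
    · rintro ⟨i, hi, rfl⟩
      refine ⟨i.2, ?_⟩
      rw [hi]
      exact Nat.beq_refl k
    · rintro ⟨hv, hb⟩
      exact ⟨⟨v, hv⟩, Nat.eq_of_beq_eq_true hb, rfl⟩
  have hLr : ∀ i : Fin (n + 1), O.lab i.1 < r := by
    have h1 : ((Finset.univ : Finset (Fin (n + 1))).filter (fun i => O.lab i.1 ∈ Finset.range r)).card =
        ∑ k ∈ Finset.range r, cnt k := by
      rw [Finset.card_eq_sum_card_fiberwise (f := fun i : Fin (n + 1) => O.lab i.1) (t := Finset.range r)]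
      · apply Finset.sum_congr rfl
        intro k hk
        rw [← hcnt' k (Finset.mem_range.mp hk)]
        congr 1
        ext i
        simp only [Finset.mem_filter, Finset.mem_univ, true_and]
        constructor
        · rintro ⟨_, h⟩; exact h
        · intro h; exact ⟨h ▸ hk, h⟩
      · intro i hi
        simp only [Finset.coe_filter, Finset.mem_univ, true_and, Set.mem_ofPred_eq] at hi
        exact hi
    rw [hsum] at h1
    have h2 : ((Finset.univ : Finset (Fin (n + 1))).filter (fun i => O.lab i.1 ∈ Finset.range r)) =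
        Finset.univ := by
      apply Finset.eq_univ_of_card
      rw [h1]; simp
    intro i
    have : i ∈ ((Finset.univ : Finset (Fin (n + 1))).filter (fun i => O.lab i.1 ∈ Finset.range r)) := by
      rw [h2]; exact Finset.mem_univ i
    simpa using this
  apply normal_trivial_or_transitive n φ htrans (wsub I.val S) _ (fun i => O.lab i.1) _ r hLr cnt hcnt' hnum N
  · intro h hh
    apply hA0
    rw [← hmap]
    exact Subgroup.mem_map_of_mem φ hh
  · intro i j hij
    obtain ⟨a, ha, hai⟩ := O.reach i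
    obtain ⟨b, hb, hbj⟩ := O.reach j
    have hab : b⁻¹ * a ∈ OrbData.A (D := D) := Subgroup.mul_mem _ (Subgroup.inv_mem _ hb) ha
    rw [← hmap] at hab
    obtain ⟨h, hh, hh2⟩ := Subgroup.mem_map.mp hab
    refine ⟨h, hh, ?_⟩
    rw [hh2, Equiv.Perm.mul_apply, Equiv.Perm.inv_eq_iff_eq]
    apply Fin.ext
    rw [hai, hbj]
    show O.rep (O.lab i.1) = O.rep (O.lab j.1)
    rw [show O.lab i.1 = O.lab j.1 from hij]

/-- a normal subgroup of index prime to `p` contains every element killed by `p`. -/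
lemma mem_of_transitive {G : Type*} [Group G] [Finite G] (M : Nat) (hM : Nat.card G = M)
    (y : G) (p : Nat) (hp : p.Prime) (hy : y ^ p = 1) (N : Subgroup G) [N.Normal] (d : Nat)
    (hd1 : d ∣ Nat.card N) (hd2 : ¬ p ∣ M / d) : y ∈ N := by
  have hMpos : 0 < M := by rw [← hM]; exact Nat.card_pos
  have h1 : Nat.card N * N.index = M := by rw [← hM]; exact Subgroup.card_mul_index N
  obtain ⟨k, hk⟩ := hd1
  have hdpos : 0 < d := by
    rcases Nat.eq_zero_or_pos d with rfl | h
    · rw [hk] at h1; simp at h1; omega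
    · exact h
  have h2 : M / d = k * N.index := by
    rw [← h1, hk, Nat.mul_assoc, Nat.mul_div_cancel_left _ hdpos]
  have h3 : ¬ p ∣ N.index := fun h => hd2 (h2 ▸ Dvd.dvd.mul_left h k)
  have h4 : ((y : G ⧸ N)) ^ p = 1 := by
    rw [← QuotientGroup.mk_pow, hy]; rfl
  have h5 : ((y : G ⧸ N)) ^ N.index = 1 := by
    unfold Subgroup.index
    exact pow_card_eq_one'
  have h6 : orderOf (y : G ⧸ N) ∣ Nat.gcd p N.index :=
    Nat.dvd_gcd (orderOf_dvd_of_pow_eq_one h4) (orderOf_dvd_of_pow_eq_one h5)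
  have h7 : Nat.gcd p N.index = 1 := (Nat.Prime.coprime_iff_not_dvd hp).mpr h3
  rw [h7, Nat.dvd_one, orderOf_eq_one_iff] at h6
  exact (QuotientGroup.eq_one_iff y).mp h6

/-- numerical and word data making one action usable in the simplicity argument -/
structure PrimData {C : Nat} {inv : Nat → Nat} {R S : List (List Nat)} {n : Nat} (D : PermData C inv R S n)
    (M : Nat) where
  O : OrbData D
  r : Nat
  cnt : Nat → Nat
  hcnt : ∀ k, k < r → countBelow (fun j => Nat.beq (O.lab j) k) (n + 1) = cnt k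
  hsum : ∑ k ∈ Finset.range r, cnt k = n + 1
  hnum : ∀ J ∈ (Finset.range r).powerset, (∑ k ∈ J, cnt k) ∣ (n + 1) →
      (∑ k ∈ J, cnt k) ≤ 1 ∨ (∑ k ∈ J, cnt k) = n + 1
  p : Nat
  hp : p.Prime
  yw : List Nat
  hyC : ∀ c ∈ yw, c < C
  hnd : ¬ p ∣ M / (n + 1)
  col : CertData C inv (yw :: R) [] 1

theorem simple_of_two {G : Type} [Group G] (I : PresIface G) {S1 S2 : List (List Nat)} {n1 n2 : Nat}
    (D1 : PermData I.C I.inv I.R S1 n1) (D2 : PermData I.C I.inv I.R S2 n2) (M : Nat) (hM : 1 < M)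
    (hup : Finite (wsub I.val (allWords I.C)) ∧ Nat.card (wsub I.val (allWords I.C)) ≤ M)
    (hlo : M ≤ Nat.card (wsub (prodVal D1 D2) (allWords I.C)))
    (P1 : PrimData D1 M) (P2 : PrimData D2 M)
    (h11 : ∀ i, i < n1 + 1 → pwalk D1.pt (repW P1.p P1.yw) i = i)
    (h12 : ∀ i, i < n2 + 1 → pwalk D2.pt (repW P1.p P1.yw) i = i)
    (h21 : ∀ i, i < n1 + 1 → pwalk D1.pt (repW P2.p P2.yw) i = i)
    (h22 : ∀ i, i < n2 + 1 → pwalk D2.pt (repW P2.p P2.yw) i = i) :
    IsSimpleGroup G ∧ Nat.card G = M := by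
  obtain ⟨Φ, hΦ⟩ := exists_prod_hom I D1 D2
  obtain ⟨hfin, hcard, hinj⟩ := card_eq_and_injective I (prodVal D1 D2) Φ hΦ M (by omega) hup hlo
  refine ⟨?_, hcard⟩
  have hnt : Nontrivial G := by
    rw [← Finite.one_lt_card_iff_nontrivial, hcard]; exact hM
  have hy : ∀ (p : Nat) (yw : List Nat), (∀ c ∈ yw, c < I.C) →
      (∀ i, i < n1 + 1 → pwalk D1.pt (repW p yw) i = i) → (∀ i, i < n2 + 1 → pwalk D2.pt (repW p yw) i = i) →
      (wval I.val yw) ^ p = 1 := by
    intro p yw hC h1 h2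
    apply hinj
    rw [← wval_repW, map_wval Φ I.val _ hΦ, wval_prodVal, map_one,
      D1.pv_eq_one _ (fun c hc => hC c (mem_repW _ _ _ hc)) h1,
      D2.pv_eq_one _ (fun c hc => hC c (mem_repW _ _ _ hc)) h2]
    rfl
  set φ1 := (MonoidHom.fst _ _).comp Φ with hφ1
  set φ2 := (MonoidHom.snd _ _).comp Φ with hφ2
  have hφ1v : ∀ c, φ1 (I.val c) = D1.pv c := fun c => by
    simp only [hφ1, MonoidHom.comp_apply, hΦ]; rfl
  have hφ2v : ∀ c, φ2 (I.val c) = D2.pv c := fun c => by
    simp only [hφ2, MonoidHom.comp_apply, hΦ]; rfl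
  constructor
  intro N hN
  rcases dichotomy_of_orbData I D1 P1.O φ1 hφ1v P1.r P1.cnt P1.hcnt P1.hsum P1.hnum N with t1 | t1
  · rcases dichotomy_of_orbData I D2 P2.O φ2 hφ2v P2.r P2.cnt P2.hcnt P2.hsum P2.hnum N with t2 | t2
    · left
      rw [eq_bot_iff]
      intro g hg
      rw [Subgroup.mem_bot]
      apply hinj
      rw [map_one]
      exact Prod.ext (t1 g hg) (t2 g hg)
    · right
      apply normal_eq_top_of_collapse I P2.yw P2.col N
      exact mem_of_transitive M hcard _ P2.p P2.hp (hy _ _ P2.hyC h21 h22) N (n2 + 1)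
        (card_dvd_of_transitive N n2 φ2 t2) P2.hnd
  · right
    apply normal_eq_top_of_collapse I P1.yw P1.col N
    exact mem_of_transitive M hcard _ P1.p P1.hp (hy _ _ P1.hyC h11 h12) N (n1 + 1)
      (card_dvd_of_transitive N n1 φ1 t1) P1.hnd

/-! chain combinators -/

lemma upper_nil {G : Type*} [Group G] (val : Nat → G) :
    Finite (wsub val []) ∧ Nat.card (wsub val []) ≤ 1 := by
  rw [wsub_nil]
  exact ⟨inferInstance, by simp⟩

lemma upper_cons {A B : Type*} (m k mk : Nat) (h : Finite B ∧ Nat.card B ≤ k)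
    (step : Finite B → Finite A ∧ Nat.card A ≤ m * Nat.card B) (hmk : m * k = mk) :
    Finite A ∧ Nat.card A ≤ mk := by
  obtain ⟨h1, h2⟩ := step h.1
  exact ⟨h1, hmk ▸ le_trans h2 (Nat.mul_le_mul_left m h.2)⟩

lemma lower_nil {G : Type*} [Group G] (val : Nat → G) : 1 ≤ Nat.card (wsub val []) := by
  rw [wsub_nil]; simp

lemma lower_cons {A B : Type*} (m k mk : Nat) (h : k ≤ Nat.card B) (step : m * Nat.card B ≤ Nat.card A)
    (hmk : m * k = mk) : mk ≤ Nat.card A :=
  hmk ▸ le_trans (Nat.mul_le_mul_left m h) step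

end Cfsg.Agent.Lib.Helper35
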