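import Cfsg.Prelude.Def_SporadicB
import Cfsg.Agent.Lib.Helper35.Simple2

/-! Perfectness from a collapse enumeration, and recognition of non-split double covers. -/

namespace Cfsg.Agent.Lib.Helper35

def commWords (C : Nat) (inv : Nat → Nat) : List (List Nat) :=
  (List.range C).flatMap (fun c => (List.range C).map (fun d => [c, d, inv c, inv d]))

/-- perfectness from a collapse enumeration of the abelianisation -/
theorem commutator_eq_top_of_collapse {H : Type*} [Group H] (val : Nat → H) (C : Nat) (inv : Nat → Nat)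
    (hval1 : ∀ c, C ≤ c → val c = 1) (hinv : ∀ c, val (inv c) = (val c)⁻¹)
    (hgen : Subgroup.closure {g | ∃ c, c < C ∧ val c = g} = ⊤)
    (R : List (List Nat)) (hR : ∀ b ∈ R, wval val b = 1)
    (D : CertData C inv (commWords C inv ++ R) [] 1) : commutator H = ⊤ := by
  set N := commutator H with hN
  set π := QuotientGroup.mk' N with hπ
  set v : Nat → H ⧸ N := fun c => π (val c) with hv
  have hcomm : IsMulCommutative (H ⧸ N) := Subgroup.Normal.quotient_commutative_iff_commutator_le.mpr le_rfl
  have hw : ∀ W, π (wval val W) = wval v W := map_wval π val v (fun _ => rfl)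
  have hval1' : ∀ c, C ≤ c → v c = 1 := by
    intro c hc
    simp only [hv, hval1 c hc, map_one]
  have hinv' : ∀ c, v (inv c) = (v c)⁻¹ := by
    intro c
    simp only [hv, hinv, map_inv]
  have hgen' : Subgroup.closure {g | ∃ c, c < C ∧ v c = g} = ⊤ := by
    have h1 : (Subgroup.closure {g | ∃ c, c < C ∧ val c = g}).map π = ⊤ := by
      rw [hgen]
      exact Subgroup.map_top_of_surjective π (QuotientGroup.mk'_surjective N)
    rw [← h1, MonoidHom.map_closure]
    congr 1
    ext g
    simp only [Set.mem_image, Set.mem_ofPred_eq]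
    constructor
    · rintro ⟨c, hc, rfl⟩
      exact ⟨_, ⟨c, hc, rfl⟩, rfl⟩
    · rintro ⟨_, ⟨c, hc, rfl⟩, rfl⟩
      exact ⟨c, hc, rfl⟩
  have hR' : ∀ b ∈ commWords C inv ++ R, wval v b = 1 := by
    intro b hb
    rcases List.mem_append.mp hb with hb | hb
    · simp only [commWords, List.mem_flatMap, List.mem_map, List.mem_range] at hb
      obtain ⟨c, _, d, _, rfl⟩ := hb
      simp only [wval_cons, wval_nil, mul_one, hinv']
      have : v c * v d = v d * v c := hcomm.is_comm.comm _ _
      calc v c * (v d * ((v c)⁻¹ * (v d)⁻¹)) = (v c * v d) * ((v c)⁻¹ * (v d)⁻¹) := by group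
        _ = (v d * v c) * ((v c)⁻¹ * (v d)⁻¹) := by rw [this]
        _ = 1 := by group
    · rw [← hw, hR b hb, map_one]
  obtain ⟨hfin, hle⟩ := card_quot_le (⊥ : Subgroup (H ⧸ N)) D.P D.hP D.tabs C D.N 1 inv v hval1' hinv' hgen'
    (fullBases C inv (commWords C inv ++ R)) (fullSub inv [])
    (wval_fullBases C inv v hinv' _ hR')
    (wval_fullSub ⊥ inv v hinv' [] (by intro s hs; simp at hs))
    D.trees D.je D.pe D.rb D.mR D.cK D.hcK D.htree D.hN D.hN1 D.hlo D.hhi D.hz D.hcol D.heps D.hcount
  have h2 : Nat.card (H ⧸ N) = Nat.card ((H ⧸ N) ⧸ (⊥ : Subgroup (H ⧸ N))) := by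
    rw [Subgroup.card_eq_card_quotient_mul_card_subgroup (⊥ : Subgroup (H ⧸ N))]
    simp
  have h3 : 0 < Nat.card ((H ⧸ N) ⧸ (⊥ : Subgroup (H ⧸ N))) := Nat.card_pos
  have h4 : N.index = 1 := by
    unfold Subgroup.index
    omega
  exact Subgroup.index_eq_one.mp h4

/-- a surjection from a simple group onto a nontrivial group is bijective -/
lemma bijective_of_simple {F Q : Type*} [Group F] [Group Q] [IsSimpleGroup F] [Nontrivial Q] (ψ : F →* Q)
    (hψ : Function.Surjective ψ) : Function.Bijective ψ := by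
  refine ⟨?_, hψ⟩
  rw [← MonoidHom.ker_eq_bot_iff]
  rcases (MonoidHom.normal_ker ψ).eq_bot_or_eq_top with h | h
  · exact h
  · exfalso
    obtain ⟨q, hq⟩ := exists_ne (1 : Q)
    obtain ⟨f, rfl⟩ := hψ q
    apply hq
    have : f ∈ ψ.ker := by rw [h]; exact Subgroup.mem_top f
    exact this

lemma center_eq_bot_of_simple {F : Type*} [Group F] [IsSimpleGroup F] (hna : ∃ a b : F, a * b ≠ b * a) :
    Subgroup.center F = ⊥ := by
  rcases (inferInstance : (Subgroup.center F).Normal).eq_bot_or_eq_top with h | h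
  · exact h
  · exfalso
    obtain ⟨a, b, hab⟩ := hna
    apply hab
    have : a ∈ Subgroup.center F := by rw [h]; exact Subgroup.mem_top a
    exact (Subgroup.mem_center_iff.mp this b).symm

/-- recognition of a non-split double cover -/
theorem nonsplit_double_cover {H F : Type*} [Group H] [Group F] [IsSimpleGroup F]
    (hna : ∃ a b : F, a * b ≠ b * a) (Z : Subgroup H) [Z.Normal] (hZc : Z ≤ Subgroup.center H)
    (hZ2 : Nat.card Z = 2) (ψ : F →* H ⧸ Z) (hψ : Function.Surjective ψ) [Nontrivial (H ⧸ Z)]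
    (hperf : commutator H = ⊤) : Cfsg.IsNonsplitDoubleCover H F := by
  have hbij := bijective_of_simple ψ hψ
  let e : F ≃* H ⧸ Z := MulEquiv.ofBijective ψ hbij
  have hcQ : Subgroup.center (H ⧸ Z) = ⊥ := by
    rw [eq_bot_iff]
    intro q hq
    rw [Subgroup.mem_bot]
    have h1 : e.symm q ∈ Subgroup.center F := by
      rw [Subgroup.mem_center_iff]
      intro g
      apply e.injective
      rw [map_mul, map_mul, e.apply_symm_apply]
      exact Subgroup.mem_center_iff.mp hq (e g)
    rw [center_eq_bot_of_simple hna, Subgroup.mem_bot] at h1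
    have := congrArg e h1
    rwa [e.apply_symm_apply, map_one] at this
  have hcenter : Subgroup.center H = Z := by
    apply le_antisymm _ hZc
    intro x hx
    have h1 : (x : H ⧸ Z) ∈ Subgroup.center (H ⧸ Z) := by
      rw [Subgroup.mem_center_iff]
      intro q
      induction q using QuotientGroup.induction_on with
      | H g =>
        rw [← QuotientGroup.mk_mul, ← QuotientGroup.mk_mul, Subgroup.mem_center_iff.mp hx g]
    rw [hcQ, Subgroup.mem_bot] at h1
    exact (QuotientGroup.eq_one_iff x).mp h1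
  refine ⟨by rw [hcenter]; exact hZ2, ⟨(QuotientGroup.quotientMulEquivOfEq hcenter).trans e.symm⟩, ?_⟩
  intro L hL
  have hidx : L.index = 2 := by rw [hL.index_eq_card, hcenter]; exact hZ2
  have hLn : L.Normal := Subgroup.normal_of_index_eq_two hidx
  have hc2 : Nat.card (H ⧸ L) = 2 := hidx
  have : Fact (Nat.Prime 2) := ⟨Nat.prime_two⟩
  have hcyc : IsCyclic (H ⧸ L) := isCyclic_of_prime_card hc2
  have hcomm : IsMulCommutative (H ⧸ L) := ⟨⟨fun a b => IsCyclic.commGroup.mul_comm a b⟩⟩
  have hle := Subgroup.Normal.quotient_commutative_iff_commutator_le.mp hcomm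
  rw [hperf, top_le_iff] at hle
  rw [hle, Subgroup.index_top] at hidx
  omega

end Cfsg.Agent.Lib.Helper35
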