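import Cfsg.Agent.Lib.Helper35.Cover

/-! A subgroup generated by values satisfying the relators of a simple presented group up to one central
involution is a non-split double cover of it. -/

namespace Cfsg.Agent.Lib.Helper35

theorem cover_of_values {F : Type} [Group F] (IF : PresIface F) [IsSimpleGroup F]
    (hna : ∃ a b : F, a * b ≠ b * a) {K : Type} [Group K] (v : Nat → K)
    (hvinv : ∀ c, c < IF.C → v (IF.inv c) = (v c)⁻¹)
    (hinvC : ∀ c, c < IF.C → IF.inv c < IF.C)
    (hinvE : ∀ c, IF.C ≤ c → IF.inv c = c)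
    (hRC : ∀ b ∈ IF.R, ∀ c ∈ b, c < IF.C)
    (zw : List Nat) (hzC : ∀ c ∈ zw, c < IF.C)
    (hR : ∀ b ∈ IF.R, wval v b = 1 ∨ b = zw)
    (hzc : ∀ c, c < IF.C → wval v zw * v c = v c * wval v zw)
    (hz1 : wval v zw ≠ 1) (hz2 : wval v zw * wval v zw = 1)
    (x : Nat) (hx : x < IF.C) (hx1 : v x ≠ 1) (hx2 : v x ≠ wval v zw)
    (Rp : List (List Nat)) (hRp : ∀ b ∈ Rp, wval v b = 1) (hRpC : ∀ b ∈ Rp, ∀ c ∈ b, c < IF.C)
    (Dp : CertData IF.C IF.inv (commWords IF.C IF.inv ++ Rp) [] 1) :
    Cfsg.IsNonsplitDoubleCover (wsub v (allWords IF.C)) F ∧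
      Nat.card (wsub v (allWords IF.C)) = 2 * Nat.card F := by
  classical
  set C := IF.C with hC
  set A := wsub v (allWords C) with hA
  have hvA : ∀ c, c < C → v c ∈ A := by
    intro c hc
    have h1 : [c] ∈ allWords C := List.mem_map.mpr ⟨c, List.mem_range.mpr hc, rfl⟩
    have := mem_wsub v (allWords C) [c] h1
    simpa using this
  set v' : Nat → A := fun c => if h : c < C then ⟨v c, hvA c h⟩ else 1 with hv'
  have hv'lt : ∀ c (h : c < C), v' c = ⟨v c, hvA c h⟩ := fun c h => by simp only [hv', dif_pos h]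
  have hv'ge : ∀ c, C ≤ c → v' c = 1 := fun c h => by simp only [hv', dif_neg (Nat.not_lt.mpr h)]
  have hcoe : ∀ W : List Nat, (∀ c ∈ W, c < C) → ((wval v' W : A) : K) = wval v W := by
    intro W
    induction W with
    | nil => intro _; rfl
    | cons c W ih =>
      intro hW
      rw [wval_cons, wval_cons, Subgroup.coe_mul, ih (fun c' hc' => hW c' (List.mem_cons_of_mem _ hc')),
        hv'lt c (hW c List.mem_cons_self)]
  have hinv' : ∀ c, v' (IF.inv c) = (v' c)⁻¹ := by
    intro c
    rcases Nat.lt_or_ge c C with hc | hc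
    · rw [hv'lt c hc, hv'lt _ (hinvC c hc)]
      apply Subtype.ext
      exact hvinv c hc
    · rw [hinvE c hc, hv'ge c hc, inv_one]
  have hgen : Subgroup.closure {g : A | ∃ c, c < C ∧ v' c = g} = ⊤ := by
    have hset : {g : A | ∃ c, c < C ∧ v' c = g} =
        ((↑) : Subgroup.closure {g | ∃ s ∈ allWords C, wval v s = g} → K) ⁻¹'
          {g | ∃ s ∈ allWords C, wval v s = g} := by
      ext g
      constructor
      · rintro ⟨c, hc, rfl⟩
        refine ⟨[c], List.mem_map.mpr ⟨c, List.mem_range.mpr hc, rfl⟩, ?_⟩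
        rw [hv'lt c hc]
        simp
      · rintro ⟨s, hs, hg⟩
        obtain ⟨c, hc, rfl⟩ := List.mem_map.mp hs
        refine ⟨c, List.mem_range.mp hc, Subtype.ext ?_⟩
        rw [hv'lt c (List.mem_range.mp hc), ← hg]
        simp
    rw [hset]
    exact Subgroup.closure_closure_coe_preimage
  set z' : A := wval v' zw with hz'
  have hz'coe : (z' : K) = wval v zw := hcoe zw hzC
  have hz'c : z' ∈ Subgroup.center A := by
    rw [Subgroup.mem_center_iff]
    intro g
    have hg : g ∈ Subgroup.closure {g : A | ∃ c, c < C ∧ v' c = g} := by rw [hgen]; exact Subgroup.mem_top g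
    induction hg using Subgroup.closure_induction with
    | mem g hg =>
      obtain ⟨c, hc, rfl⟩ := hg
      apply Subtype.ext
      rw [Subgroup.coe_mul, Subgroup.coe_mul, hz'coe, hv'lt c hc]
      exact (hzc c hc).symm
    | one => simp
    | mul a b _ _ iha ihb => rw [mul_assoc, ihb, ← mul_assoc, iha, mul_assoc]
    | inv a _ iha =>
      have : a * (a⁻¹ * z') * a⁻¹ = a * (z' * a⁻¹) * a⁻¹ := by
        calc a * (a⁻¹ * z') * a⁻¹ = z' * a⁻¹ := by group
          _ = (z' * a) * a⁻¹ * a⁻¹ := by group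
          _ = (a * z') * a⁻¹ * a⁻¹ := by rw [iha]
          _ = a * (z' * a⁻¹) * a⁻¹ := by group
      exact mul_left_cancel (mul_right_cancel this)
  set Z : Subgroup A := Subgroup.zpowers z' with hZ
  have hZc : Z ≤ Subgroup.center A := by
    rw [hZ, Subgroup.zpowers_le]; exact hz'c
  have hZn : Z.Normal := by
    constructor
    intro n hn g
    have := Subgroup.mem_center_iff.mp (hZc hn) g
    rw [this, mul_inv_cancel_right]
    exact hn
  have hz'1 : z' ≠ 1 := by
    intro h
    apply hz1
    rw [← hz'coe, h]; rfl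
  have hz'2 : z' ^ 2 = 1 := by
    apply Subtype.ext
    rw [pow_two, Subgroup.coe_mul, hz'coe, hz2]; rfl
  have hord : orderOf z' = 2 := orderOf_eq_prime hz'2 hz'1
  have hZ2 : Nat.card Z = 2 := by rw [hZ, Nat.card_zpowers, hord]
  have hmemZ : ∀ g : A, g ∈ Z → g = 1 ∨ g = z' := by
    intro g hg
    obtain ⟨k, rfl⟩ := Subgroup.mem_zpowers_iff.mp hg
    have hk : z' ^ k = z' ^ (k % 2) := by
      have h := (zpow_mod_orderOf z' k).symm
      rw [hord] at h
      exact h
    rw [hk]
    rcases Int.emod_two_eq_zero_or_one k with h | h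
    · left; rw [h]; simp
    · right; rw [h]; simp
  set π := QuotientGroup.mk' Z with hπ
  set w : Nat → A ⧸ Z := fun c => π (v' c) with hw
  have hww : ∀ W, π (wval v' W) = wval w W := map_wval π v' w (fun _ => rfl)
  obtain ⟨ψ, hψ⟩ := IF.lift w
    (fun c hc => by simp only [hw, hv'ge c hc, map_one])
    (fun c => by simp only [hw, hinv', map_inv])
    (fun b hb => by
      rw [← hww]
      rcases hR b hb with h | h
      · have : wval v' b = 1 := by
          apply Subtype.ext
          rw [hcoe b (hRC b hb), h]; rfl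
        rw [this, map_one]
      · rw [h]
        exact (QuotientGroup.eq_one_iff _).mpr (Subgroup.mem_zpowers z'))
  have hsurj : Function.Surjective ψ := by
    rw [← MonoidHom.range_eq_top, eq_top_iff]
    have h1 : (Subgroup.closure {g : A | ∃ c, c < C ∧ v' c = g}).map π = ⊤ := by
      rw [hgen]
      exact Subgroup.map_top_of_surjective π (QuotientGroup.mk'_surjective Z)
    rw [← h1, MonoidHom.map_closure, Subgroup.closure_le]
    rintro _ ⟨_, ⟨c, _, rfl⟩, rfl⟩
    exact ⟨IF.val c, hψ c⟩
  have hnt : Nontrivial (A ⧸ Z) := by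
    refine ⟨⟨π (v' x), 1, ?_⟩⟩
    intro h
    have h1 : v' x ∈ Z := (QuotientGroup.eq_one_iff _).mp h
    rcases hmemZ _ h1 with h2 | h2
    · apply hx1
      have := congrArg (fun g : A => (g : K)) h2
      rw [hv'lt x hx] at this
      exact this
    · apply hx2
      have := congrArg (fun g : A => (g : K)) h2
      rw [hv'lt x hx] at this
      simp only at this
      rw [this, hz'coe]
  have hperf : commutator A = ⊤ :=
    commutator_eq_top_of_collapse v' C IF.inv hv'ge hinv' hgen Rp
      (fun b hb => by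
        apply Subtype.ext
        rw [hcoe b (hRpC b hb), hRp b hb]; rfl) Dp
  refine ⟨nonsplit_double_cover hna Z hZc hZ2 ψ hsurj hperf, ?_⟩
  rw [Subgroup.card_eq_card_quotient_mul_card_subgroup Z, hZ2,
    ← Nat.card_congr (Equiv.ofBijective ψ (bijective_of_simple ψ hsurj)), Nat.mul_comm]

end Cfsg.Agent.Lib.Helper35
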