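import Cfsg.Agent.Lib.Helper35.PermRep

/-! Interface "group presented by columns and relator words", and the assembled index theorem. -/

namespace Cfsg.Agent.Lib.Helper35

/-- `G` is presented by the columns `0..C-1` (closed under the inverse map `inv`) and the relator words `R`. -/
structure PresIface (G : Type) [Group G] where
  C : Nat
  inv : Nat → Nat
  val : Nat → G
  R : List (List Nat)
  hval1 : ∀ c, C ≤ c → val c = 1
  hinv : ∀ c, val (inv c) = (val c)⁻¹
  hgen : Subgroup.closure {g | ∃ c, c < C ∧ val c = g} = ⊤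
  hR : ∀ b ∈ R, wval val b = 1
  lift : ∀ {K : Type} [Group K] (v : Nat → K), (∀ c, C ≤ c → v c = 1) → (∀ c, v (inv c) = (v c)⁻¹) →
    (∀ b ∈ R, wval v b = 1) → ∃ φ : G →* K, ∀ c, φ (val c) = v c

def fullBases (C : Nat) (inv : Nat → Nat) (R : List (List Nat)) : List (List Nat) :=
  (List.range C).map (fun c => [c, inv c]) ++ R ++ R.map (invW inv)

def fullSub (inv : Nat → Nat) (S : List (List Nat)) : List (List Nat) := S ++ S.map (invW inv)

lemma wval_fullBases {G : Type*} [Group G] (C : Nat) (inv : Nat → Nat) (val : Nat → G)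
    (hinv : ∀ c, val (inv c) = (val c)⁻¹) (R : List (List Nat)) (hR : ∀ b ∈ R, wval val b = 1) :
    ∀ b ∈ fullBases C inv R, wval val b = 1 := by
  intro b hb
  simp only [fullBases, List.mem_append, List.mem_map, List.mem_range] at hb
  rcases hb with (⟨c, _, rfl⟩ | hb) | ⟨b', hb', rfl⟩
  · simp [hinv]
  · exact hR b hb
  · rw [wval_invW val inv hinv, hR b' hb', inv_one]

lemma wval_fullSub {G : Type*} [Group G] (H : Subgroup G) (inv : Nat → Nat) (val : Nat → G)
    (hinv : ∀ c, val (inv c) = (val c)⁻¹) (S : List (List Nat)) (hS : ∀ b ∈ S, wval val b ∈ H) :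
    ∀ b ∈ fullSub inv S, wval val b ∈ H := by
  intro b hb
  simp only [fullSub, List.mem_append, List.mem_map] at hb
  rcases hb with hb | ⟨b', hb', rfl⟩
  · exact hS b hb
  · rw [wval_invW val inv hinv]
    exact H.inv_mem (hS b' hb')

lemma map_wval {G K : Type*} [Group G] [Group K] (φ : G →* K) (val : Nat → G) (v : Nat → K)
    (h : ∀ c, φ (val c) = v c) (W : List Nat) : φ (wval val W) = wval v W := by
  induction W with
  | nil => simp
  | cons c W ih => rw [wval_cons, wval_cons, map_mul, h, ih]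

/-- spanning tree check for transitivity -/
def treeStep (pt : Nat → Nat → Nat) (tp : Nat → Nat) (cK C i : Nat) : Bool :=
  match Nat.ble i (tp i / cK) with
  | true => false
  | false =>
    match Nat.ble C (tp i % cK) with
    | true => false
    | false => Nat.beq (pt (tp i % cK) (tp i / cK)) i

lemma treeStep_spec (pt : Nat → Nat → Nat) (tp : Nat → Nat) (cK C i : Nat)
    (h : treeStep pt tp cK C i = true) :
    tp i / cK < i ∧ tp i % cK < C ∧ pt (tp i % cK) (tp i / cK) = i := by
  unfold treeStep at h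
  cases h1 : Nat.ble i (tp i / cK) with
  | true => rw [h1] at h; simp at h
  | false =>
    rw [h1] at h
    cases h2 : Nat.ble C (tp i % cK) with
    | true => rw [h2] at h; simp at h
    | false =>
      rw [h2] at h
      refine ⟨?_, ?_, Nat.eq_of_beq_eq_true h⟩
      · by_contra hc
        rw [Nat.ble_eq_true_of_le (by omega)] at h1
        simp at h1
      · by_contra hc
        rw [Nat.ble_eq_true_of_le (by omega)] at h2
        simp at h2

lemma pwalk_append (pt : Nat → Nat → Nat) (W W' : List Nat) (i : Nat) :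
    pwalk pt (W ++ W') i = pwalk pt W' (pwalk pt W i) := by
  induction W generalizing i with
  | nil => rfl
  | cons c W ih => exact ih _

lemma reach_of_tree (pt : Nat → Nat → Nat) (tp : Nat → Nat) (cK C n : Nat)
    (h : ∀ i, 1 ≤ i → i ≤ n → treeStep pt tp cK C i = true) :
    ∀ i, i ≤ n → ∃ W : List Nat, (∀ c ∈ W, c < C) ∧ pwalk pt W 0 = i := by
  intro i
  induction i using Nat.strong_induction_on with
  | _ i ih =>
    intro hi
    rcases Nat.eq_zero_or_pos i with rfl | hpos
    · exact ⟨[], by simp, rfl⟩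
    · obtain ⟨h1, h2, h3⟩ := treeStep_spec _ _ _ _ _ (h i hpos hi)
      obtain ⟨W, hW, hw⟩ := ih _ h1 (by omega)
      refine ⟨W ++ [tp i % cK], ?_, ?_⟩
      · intro c hc
        rcases List.mem_append.mp hc with hc | hc
        · exact hW c hc
        · simp at hc; omega
      · rw [pwalk_append, hw]
        exact h3

/-- all the words of a list of unrolled words fix all the points below `n` -/
lemma fix_of_leaves {pt : Nat → Nat → Nat} (rl : List (PLeaf pt)) (n : Nat)
    (h : allBelow (fixAll rl) n = true) : ∀ b ∈ rl.map PLeaf.W, ∀ i, i < n → pwalk pt b i = i := by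
  intro b hb i hi
  obtain ⟨lf, hlf, rfl⟩ := List.mem_map.mp hb
  exact fixAll_spec _ _ (allBelow_spec _ _ h i hi) lf hlf

/-- chunked version of `allBelow` -/
lemma allBelow_chunks (f : Nat → Bool) (K m r : Nat)
    (h : ∀ j, j < m → allBelow (fun k => f (Nat.add (j * K) k)) K = true)
    (hr : allBelow (fun k => f (Nat.add (m * K) k)) r = true) : ∀ i, i < m * K + r → f i = true := by
  intro i hi
  rcases Nat.eq_zero_or_pos K with rfl | hK
  · have := allBelow_spec _ _ hr i (by omega)
    simpa using this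
  · rcases Nat.lt_or_ge i (m * K) with hlt | hge
    · have hj : i / K < m := Nat.div_lt_of_lt_mul (by rwa [Nat.mul_comm] at hlt)
      have := allBelow_spec _ _ (h (i / K) hj) (i % K) (Nat.mod_lt _ hK)
      have he : Nat.add (i / K * K) (i % K) = i := Nat.div_add_mod' i K
      rwa [he] at this
    · have := allBelow_spec _ _ hr (i - m * K) (by omega)
      have he : Nat.add (m * K) (i - m * K) = i := by
        show m * K + (i - m * K) = i
        omega
      rwa [he] at this

lemma fix_of_leaves' {pt : Nat → Nat → Nat} (rl : List (PLeaf pt)) (n : Nat)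
    (h : ∀ i, i < n → fixAll rl i = true) : ∀ b ∈ rl.map PLeaf.W, ∀ i, i < n → pwalk pt b i = i := by
  intro b hb i hi
  obtain ⟨lf, hlf, rfl⟩ := List.mem_map.mp hb
  exact fixAll_spec _ _ (h i hi) lf hlf

/-- data of a permutation representation on `n+1` points, checked by the kernel -/
structure PermData (C : Nat) (inv : Nat → Nat) (R S : List (List Nat)) (n : Nat) where
  pt : Nat → Nat → Nat
  hinvC : ∀ c, c < C → inv c < C
  hinv2 : ∀ c, c < C → inv (inv c) = c
  hinvE : ∀ c, C ≤ c → inv c = c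
  hchk : ∀ c, c < C → ∀ i, i < n + 1 → invChk (pt c) (pt (inv c)) (n + 1) i = true
  hrel : ∀ b ∈ R, ∀ i, i < n + 1 → pwalk pt b i = i
  hsub : ∀ b ∈ S, pwalk pt b 0 = 0
  hRC : ∀ b ∈ R, ∀ c ∈ b, c < C
  hSC : ∀ b ∈ S, ∀ c ∈ b, c < C
  tp : Nat → Nat
  cK : Nat
  htree : ∀ i, 1 ≤ i → i ≤ n → treeStep pt tp cK C i = true

namespace PermData

variable {C : Nat} {inv : Nat → Nat} {R S : List (List Nat)} {n : Nat} (D : PermData C inv R S n)

lemma chk (c : Nat) (hc : c < C) (i : Nat) (hi : i < n + 1) :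
    D.pt c i < n + 1 ∧ D.pt (inv c) (D.pt c i) = i :=
  invChk_spec _ _ _ _ (D.hchk c hc i hi)

/-- the value function into `Perm (Fin (n+1))` -/
def pv : Nat → Equiv.Perm (Fin (n + 1)) := permVal (n + 1) C D.pt inv D.hinvC D.hinv2 D.chk

lemma pv_one (c : Nat) (hc : C ≤ c) : D.pv c = 1 := by
  simp [pv, permVal, colPerm, Nat.not_lt.mpr hc]

lemma pv_inv (c : Nat) : D.pv (inv c) = (D.pv c)⁻¹ := by
  rcases Nat.lt_or_ge c C with hc | hc
  · simp only [pv, permVal]
    rw [colPerm_inv _ _ _ _ _ _ _ c hc]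
  · rw [D.hinvE c hc, D.pv_one c hc, inv_one]

lemma pv_rel (b : List Nat) (hb : b ∈ R) : wval D.pv b = 1 := by
  apply wval_permVal_eq_one _ _ _ _ _ _ _ b (D.hRC b hb)
  exact D.hrel b hb

lemma pv_sub (b : List Nat) (hb : b ∈ S) : (wval D.pv b)⁻¹ 0 = 0 := by
  apply Fin.ext
  rw [pv, wval_permVal_inv_apply _ _ _ _ _ _ _ b (D.hSC b hb)]
  exact D.hsub b hb

lemma pv_reach (i : Fin (n + 1)) : ∃ W : List Nat, (wval D.pv W)⁻¹ 0 = i := by
  obtain ⟨W, hW, hw⟩ := reach_of_tree D.pt D.tp D.cK C n D.htree i.1 (by omega)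
  refine ⟨W, Fin.ext ?_⟩
  rw [pv, wval_permVal_inv_apply _ _ _ _ _ _ _ W hW]
  exact hw

end PermData

/-- The assembled index theorem. -/
theorem index_eq_of_data {G : Type} [Group G] (I : PresIface G) (H : Subgroup G) (S : List (List Nat))
    (hH2 : H ≤ Subgroup.closure {g | ∃ s ∈ S, wval I.val s = g}) (n : Nat)
    (D : PermData I.C I.inv I.R S n)
    (hfin : Finite (G ⧸ H)) (hle : Nat.card (G ⧸ H) ≤ n + 1) : H.index = n + 1 := by
  obtain ⟨φ, hφ⟩ := I.lift D.pv D.pv_one D.pv_inv D.pv_rel
  apply index_eq_of_action H (n + 1) φ 0 _ _ hfin hle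
  · intro h hh
    have hh' := hH2 hh
    clear hh
    induction hh' using Subgroup.closure_induction with
    | mem g hg =>
      obtain ⟨s, hs, rfl⟩ := hg
      rw [map_wval φ I.val D.pv hφ]
      have := D.pv_sub s hs
      rw [Equiv.Perm.inv_eq_iff_eq] at this
      exact this.symm
    | one => simp
    | mul a b _ _ iha ihb => rw [map_mul, Equiv.Perm.mul_apply, ihb, iha]
    | inv a _ iha => rw [map_inv, Equiv.Perm.inv_eq_iff_eq, iha]
  · intro i
    obtain ⟨W, hW⟩ := D.pv_reach i
    refine ⟨(wval I.val W)⁻¹, ?_⟩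
    rw [map_inv, map_wval φ I.val D.pv hφ]
    exact hW

end Cfsg.Agent.Lib.Helper35
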