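import Cfsg.Prelude.Def_SporCoxeter
import Cfsg.Agent.Lib.Helper35.Iface

/-! The column interface for the groups `CoxPresented α edges extra`. -/

namespace Cfsg.Agent.Lib.Helper35

open Cfsg.Spor

def invOf (l : List Nat) (c : Nat) : Nat := l.getD c c

def pairWord (m a b : Nat) : List Nat := (List.replicate m [a, b]).flatten

lemma wval_pairWord {K : Type*} [Group K] (v : Nat → K) (m a b : Nat) :
    wval v (pairWord m a b) = (v a * v b) ^ m := by
  induction m with
  | zero => simp [pairWord]
  | succ m ih =>
    unfold pairWord at ih ⊢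
    rw [List.replicate_succ, List.flatten_cons, wval_append, ih, pow_succ']
    simp [mul_assoc]

lemma pow_swap_eq_one {K : Type*} [Group K] (a b : K) (m : Nat) (h : (b * a) ^ m = 1) : (a * b) ^ m = 1 := by
  have : a * b = a * (b * a) * a⁻¹ := by group
  rw [this, conj_pow, h]
  simp

section

variable {α : Type} [DecidableEq α]

def lval {K : Type*} [Group K] (f : α → K) (p : α × Bool) : K := cond p.2 (f p.1) (f p.1)⁻¹

structure CoxCols (α : Type) where
  invL : List Nat
  colIdx : α → Nat
  cols : List (α × Bool)

namespace CoxCols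

variable (D : CoxCols α)

def C : Nat := D.cols.length
def inv : Nat → Nat := invOf D.invL
def colOf (p : α × Bool) : Nat := cond p.2 (D.colIdx p.1) (D.inv (D.colIdx p.1))

structure OK (edges : List (α × ℕ × α)) (extraL : List (List (α × Bool))) (R : List (List Nat))
    (allGens : List α) : Prop where
  hlen : D.invL.length = D.cols.length
  c1 : ∀ c ∈ List.range D.C, ∀ p, D.cols[c]? = some p → D.colOf p = c
  c2 : ∀ a ∈ allGens, D.cols[D.colIdx a]? = some (a, true)
  c3 : ∀ c ∈ List.range D.C, D.inv c < D.C ∧ D.inv (D.inv c) = c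
  c4 : ∀ c ∈ List.range D.C, ∀ p, D.cols[c]? = some p →
    D.cols[D.inv c]? = some (p.1, !p.2) ∨ (D.inv c = c ∧ p.1 ∈ coxNodes edges)
  c5 : ∀ x ∈ coxNodes edges, D.inv (D.colIdx x) = D.colIdx x
  e1 : ∀ L ∈ extraL, L.map D.colOf ∈ R
  x1 : ∀ x ∈ coxNodes edges, ∀ y ∈ coxNodes edges, x = y ∨
    pairWord (coxLabel edges x y) (D.colIdx x) (D.colIdx y) ∈ R ∨
    pairWord (coxLabel edges x y) (D.colIdx y) (D.colIdx x) ∈ R
  r1 : ∀ b ∈ R, (∃ L ∈ extraL, L.map D.colOf = b) ∨
    (∃ x ∈ coxNodes edges, ∃ y ∈ coxNodes edges,
      b = pairWord (coxLabel edges x y) (D.colIdx x) (D.colIdx y))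

end CoxCols

lemma inv_ge (D : CoxCols α) (hlen : D.invL.length = D.cols.length) (c : Nat) (hc : D.C ≤ c) : D.inv c = c := by
  unfold CoxCols.inv invOf
  rw [List.getD_eq_default]
  unfold CoxCols.C at hc
  omega

/-- words of letters, evaluated through columns -/
lemma lift_mk_eq_wval {K : Type*} [Group K] (D : CoxCols α) (v : Nat → K)
    (hvinv : ∀ c, v (D.inv c) = (v c)⁻¹) (L : List (α × Bool)) :
    FreeGroup.lift (fun a => v (D.colIdx a)) (FreeGroup.mk L) = wval v (L.map D.colOf) := by
  rw [FreeGroup.lift_mk]
  unfold wval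
  rw [List.map_map]
  congr 1
  apply List.map_congr_left
  rintro ⟨a, b⟩ _
  cases b
  · simp [CoxCols.colOf, hvinv]
  · simp [CoxCols.colOf]

variable (edges : List (α × ℕ × α)) (extra : List (FreeGroup α))

lemma cox_lift_eq_one {K : Type*} [Group K] (D : CoxCols α) (extraL : List (List (α × Bool)))
    (R : List (List Nat)) (allGens : List α) (hD : D.OK edges extraL R allGens)
    (hextra : extra = extraL.map FreeGroup.mk) (v : Nat → K)
    (hvinv : ∀ c, v (D.inv c) = (v c)⁻¹) (hvR : ∀ b ∈ R, wval v b = 1) :
    ∀ r ∈ coxRelators edges ∪ {r | r ∈ extra}, FreeGroup.lift (fun a => v (D.colIdx a)) r = 1 := by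
  intro r hr
  rcases hr with ⟨x, hx, y, hy, rfl⟩ | hr
  · rw [map_pow, map_mul, FreeGroup.lift_apply_of, FreeGroup.lift_apply_of]
    rcases hD.x1 x hx y hy with rfl | h | h
    · have h1 : coxLabel edges x x = 1 := by simp [coxLabel]
      have h2 := hvinv (D.colIdx x)
      rw [hD.c5 x hx] at h2
      rw [h1, pow_one]
      nth_rewrite 2 [h2]
      simp
    · rw [← wval_pairWord]; exact hvR _ h
    · apply pow_swap_eq_one
      rw [← wval_pairWord]; exact hvR _ h
  · have hr' : r ∈ extraL.map FreeGroup.mk := by rw [← hextra]; exact hr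
    obtain ⟨L, hL, rfl⟩ := List.mem_map.mp hr'
    rw [lift_mk_eq_wval D v hvinv]
    exact hvR _ (hD.e1 L hL)

/-- value of a column in the presented group -/
def coxVal (D : CoxCols α) (c : Nat) : CoxPresented α edges extra :=
  match D.cols[c]? with
  | some p => lval PresentedGroup.of p
  | none => 1

lemma cox_sq (x : α) (hx : x ∈ coxNodes edges) :
    (PresentedGroup.of x : CoxPresented α edges extra) * PresentedGroup.of x = 1 := by
  have h : (FreeGroup.of x * FreeGroup.of x) ^ coxLabel edges x x ∈
      coxRelators edges ∪ {r | r ∈ extra} := Or.inl ⟨x, hx, x, hx, rfl⟩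
  have h1 : coxLabel edges x x = 1 := by simp [coxLabel]
  have := PresentedGroup.one_of_mem h
  rw [h1, pow_one, map_mul] at this
  exact this

lemma mk_eq_lift : (PresentedGroup.mk (coxRelators edges ∪ {r | r ∈ extra})) =
    FreeGroup.lift (PresentedGroup.of : α → CoxPresented α edges extra) := by
  ext a
  simp [PresentedGroup.of]

/-- The interface for a Coxeter-style presented group. -/
noncomputable def coxIface (D : CoxCols α) (extraL : List (List (α × Bool)))
    (R : List (List Nat)) (allGens : List α) (hall : ∀ a, a ∈ allGens) (hD : D.OK edges extraL R allGens)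
    (hextra : extra = extraL.map FreeGroup.mk) : PresIface (CoxPresented α edges extra) := by
  have hval1 : ∀ c, D.C ≤ c → coxVal edges extra D c = 1 := by
    intro c hc
    unfold coxVal
    rw [List.getElem?_eq_none (by unfold CoxCols.C at hc; omega)]
  have hinv : ∀ c, coxVal edges extra D (D.inv c) = (coxVal edges extra D c)⁻¹ := by
    intro c
    rcases Nat.lt_or_ge c D.C with hc | hc
    · have hc' : c < D.cols.length := hc
      have hp : D.cols[c]? = some D.cols[c] := List.getElem?_eq_getElem hc'
      rcases hD.c4 c (List.mem_range.mpr hc) _ hp with h | ⟨h1, h2⟩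
      · unfold coxVal
        rw [h, hp]
        cases hb : (D.cols[c]).2 <;> simp [lval, hb]
      · rw [h1]
        unfold coxVal
        rw [hp]
        have hsq := cox_sq edges extra _ h2
        have hi : (PresentedGroup.of (D.cols[c]).1 : CoxPresented α edges extra)⁻¹ =
            PresentedGroup.of (D.cols[c]).1 := inv_eq_of_mul_eq_one_left hsq
        cases hb : (D.cols[c]).2 <;> simp [lval, hb, hi]
    · rw [inv_ge D hD.hlen c hc, hval1 c hc, inv_one]
  have hcolIdx : ∀ a, coxVal edges extra D (D.colIdx a) = PresentedGroup.of a := by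
    intro a
    unfold coxVal
    rw [hD.c2 a (hall a)]
    rfl
  have hlt : ∀ a, D.colIdx a < D.C := by
    intro a
    have := hD.c2 a (hall a)
    by_contra hc
    rw [List.getElem?_eq_none (by unfold CoxCols.C at hc; omega)] at this
    simp at this
  exact
  { C := D.C
    inv := D.inv
    val := coxVal edges extra D
    R := R
    hval1 := hval1
    hinv := hinv
    hgen := by
      rw [eq_top_iff, ← PresentedGroup.closure_range_of]
      apply Subgroup.closure_mono
      rintro _ ⟨a, rfl⟩
      exact ⟨D.colIdx a, hlt a, hcolIdx a⟩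
    hR := by
      intro b hb
      have key : ∀ L : List (α × Bool), wval (coxVal edges extra D) (L.map D.colOf) =
          PresentedGroup.mk (coxRelators edges ∪ {r | r ∈ extra}) (FreeGroup.mk L) := by
        intro L
        rw [mk_eq_lift, ← lift_mk_eq_wval D _ hinv]
        congr 2
        funext a
        exact hcolIdx a
      rcases hD.r1 b hb with ⟨L, hL, rfl⟩ | ⟨x, hx, y, hy, rfl⟩
      · rw [key]
        apply PresentedGroup.one_of_mem
        right
        show FreeGroup.mk L ∈ extra
        rw [hextra]
        exact List.mem_map_of_mem hL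
      · rw [wval_pairWord, hcolIdx, hcolIdx]
        have h : (FreeGroup.of x * FreeGroup.of y) ^ coxLabel edges x y ∈
          coxRelators edges ∪ {r | r ∈ extra} := Or.inl ⟨x, hx, y, hy, rfl⟩
        have := PresentedGroup.one_of_mem h
        rw [map_pow, map_mul] at this
        exact this
    lift := by
      intro K _ v hv1 hvinv hvR
      refine ⟨PresentedGroup.toGroup (cox_lift_eq_one edges extra D extraL R allGens hD hextra v hvinv hvR), ?_⟩
      intro c
      rcases Nat.lt_or_ge c D.C with hc | hc
      · have hc' : c < D.cols.length := hc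
        have hp : D.cols[c]? = some D.cols[c] := List.getElem?_eq_getElem hc'
        have h1 := hD.c1 c (List.mem_range.mpr hc) _ hp
        unfold coxVal
        rw [hp]
        conv_rhs => rw [← h1]
        cases hb : (D.cols[c]).2
        · simp [lval, hb, CoxCols.colOf, hvinv]
        · simp [lval, hb, CoxCols.colOf]
      · rw [hval1 c hc, hv1 c hc, map_one] }

end

end Cfsg.Agent.Lib.Helper35
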