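import Cfsg.Agent.Lib.Helper35.Cover2

/-! Single-action version of the simplicity criterion, relabelling of letters, and the word form of the
double-cover recognition. -/

namespace Cfsg.Agent.Lib.Helper35

lemma wval_comp {G : Type*} [Group G] (v : Nat → G) (τ : Nat → Nat) (W : List Nat) :
    wval (fun c => v (τ c)) W = wval v (W.map τ) := by
  induction W with
  | nil => rfl
  | cons c W ih => rw [List.map_cons, wval_cons, wval_cons, ih]

lemma wsub_comp {G : Type*} [Group G] (v : Nat → G) (τ : Nat → Nat) (W : List (List Nat)) :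
    wsub (fun c => v (τ c)) W = wsub v (W.map (List.map τ)) := by
  unfold wsub
  congr 1
  ext g
  simp only [Set.mem_ofPred_eq, List.mem_map]
  constructor
  · rintro ⟨s, hs, rfl⟩
    exact ⟨_, ⟨s, hs, rfl⟩, (wval_comp v τ s).symm⟩
  · rintro ⟨_, ⟨s, hs, rfl⟩, rfl⟩
    exact ⟨s, hs, wval_comp v τ s⟩

theorem exists_perm_hom {G : Type} [Group G] (I : PresIface G) {S : List (List Nat)} {n : Nat}
    (D : PermData I.C I.inv I.R S n) :
    ∃ Φ : G →* Equiv.Perm (Fin (n + 1)), ∀ c, Φ (I.val c) = D.pv c :=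
  I.lift D.pv D.pv_one D.pv_inv D.pv_rel

/-- a word acting trivially in a faithful model is trivial -/
lemma wval_eq_one_of_inj {G : Type} [Group G] (I : PresIface G) {S : List (List Nat)} {n : Nat}
    (D : PermData I.C I.inv I.R S n) (Φ : G →* Equiv.Perm (Fin (n + 1))) (hΦ : ∀ c, Φ (I.val c) = D.pv c)
    (hinj : Function.Injective Φ) (W : List Nat) (h : wval D.pv W = 1) : wval I.val W = 1 := by
  apply hinj
  rw [map_wval Φ I.val _ hΦ, h, map_one]

theorem simple_of_one {G : Type} [Group G] (I : PresIface G) {S : List (List Nat)} {n : Nat}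
    (D : PermData I.C I.inv I.R S n) (M : Nat) (hM : 1 < M)
    (hup : Finite (wsub I.val (allWords I.C)) ∧ Nat.card (wsub I.val (allWords I.C)) ≤ M)
    (hlo : M ≤ Nat.card (wsub D.pv (allWords I.C)))
    (P : PrimData D M)
    (h1 : ∀ i, i < n + 1 → pwalk D.pt (repW P.p P.yw) i = i) :
    IsSimpleGroup G ∧ Nat.card G = M := by
  obtain ⟨Φ, hΦ⟩ := exists_perm_hom I D
  obtain ⟨hfin, hcard, hinj⟩ := card_eq_and_injective I D.pv Φ hΦ M (by omega) hup hlo
  refine ⟨?_, hcard⟩
  have hnt : Nontrivial G := by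
    rw [← Finite.one_lt_card_iff_nontrivial, hcard]; exact hM
  have hy : (wval I.val P.yw) ^ P.p = 1 := by
    apply hinj
    rw [← wval_repW, map_wval Φ I.val _ hΦ, map_one,
      D.pv_eq_one _ (fun c hc => P.hyC c (mem_repW _ _ _ hc)) h1]
  constructor
  intro N hN
  rcases dichotomy_of_orbData I D P.O Φ hΦ P.r P.cnt P.hcnt P.hsum P.hnum N with t1 | t1
  · left
    rw [eq_bot_iff]
    intro g hg
    rw [Subgroup.mem_bot]
    apply hinj
    rw [map_one]
    exact t1 g hg
  · right
    apply normal_eq_top_of_collapse I P.yw P.col N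
    exact mem_of_transitive M hcard _ P.p P.hp hy N (n + 1) (card_dvd_of_transitive N n Φ t1) P.hnd

lemma exists_noncomm_of_simple {F : Type*} [Group F] [Finite F] [IsSimpleGroup F]
    (h : ¬ (Nat.card F).Prime) : ∃ a b : F, a * b ≠ b * a := by
  by_contra hc
  push Not at hc
  let _ : CommGroup F := { (inferInstance : Group F) with mul_comm := hc }
  exact h IsSimpleGroup.prime_card

/-- word form of `cover_of_values`, for involutory letters relabelled by `τ` -/
theorem cover_of_words {F : Type} [Group F] (IF : PresIface F) [IsSimpleGroup F]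
    (hna : ∃ a b : F, a * b ≠ b * a) {K : Type} [Group K] (u : Nat → K) (τ : Nat → Nat)
    (hinvF : ∀ c, IF.inv c = c)
    (hu2 : ∀ c, c < IF.C → u (τ c) * u (τ c) = 1)
    (hRC : ∀ b ∈ IF.R, ∀ c ∈ b, c < IF.C)
    (zw : List Nat) (hzC : ∀ c ∈ zw, c < IF.C)
    (hR : ∀ b ∈ IF.R, wval u (b.map τ) = 1 ∨ b = zw)
    (hzc : ∀ c, c < IF.C → wval u ((zw ++ c :: (zw ++ [c])).map τ) = 1)
    (hzz : wval u ((zw ++ zw).map τ) = 1)
    (hz1 : wval u (zw.map τ) ≠ 1)
    (x : Nat) (hx : x < IF.C) (hx1 : u (τ x) ≠ 1) (hx2 : u (τ x) ≠ wval u (zw.map τ))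
    (Rp : List (List Nat)) (hRp : ∀ b ∈ Rp, wval u (b.map τ) = 1) (hRpC : ∀ b ∈ Rp, ∀ c ∈ b, c < IF.C)
    (Dp : CertData IF.C IF.inv (commWords IF.C IF.inv ++ Rp) [] 1) :
    Cfsg.IsNonsplitDoubleCover (wsub u ((allWords IF.C).map (List.map τ))) F ∧
      Nat.card (wsub u ((allWords IF.C).map (List.map τ))) = 2 * Nat.card F := by
  rw [← wsub_comp]
  have hz2 : wval u (zw.map τ) * wval u (zw.map τ) = 1 := by
    rw [← wval_append, ← List.map_append]; exact hzz
  apply cover_of_values IF hna (fun c => u (τ c))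
    (fun c hc => by
      rw [hinvF c]
      exact eq_inv_of_mul_eq_one_left (hu2 c hc))
    (fun c hc => by rw [hinvF c]; exact hc)
    (fun c _ => hinvF c) hRC zw hzC
    (fun b hb => by rw [wval_comp]; exact hR b hb)
    (fun c hc => by
      rw [wval_comp]
      have h := hzc c hc
      rw [List.map_append, List.map_cons, List.map_append, wval_append, wval_cons, wval_append] at h
      simp only [List.map_cons, List.map_nil, wval_cons, wval_nil, mul_one] at h
      set z := wval u (zw.map τ) with hz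
      set g := u (τ c) with hg
      have hg2 : g * g = 1 := hu2 c hc
      have hzi : z⁻¹ = z := inv_eq_of_mul_eq_one_left hz2
      have hgi : g⁻¹ = g := inv_eq_of_mul_eq_one_left hg2
      have h' : (z * g) * (z * g) = 1 := by rw [mul_assoc]; exact h
      have h3 : (z * g)⁻¹ = z * g := inv_eq_of_mul_eq_one_left h'
      rw [mul_inv_rev, hzi, hgi] at h3
      exact h3.symm)
    (by rw [wval_comp]; exact hz1)
    (by rw [wval_comp]; exact hz2)
    x hx hx1 (by rw [wval_comp]; exact hx2)
    Rp (fun b hb => by rw [wval_comp]; exact hRp b hb) hRpC Dp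

lemma invOf_range (n c : Nat) : invOf (List.range n) c = c := by
  unfold invOf
  rcases Nat.lt_or_ge c n with h | h
  · rw [List.getD_eq_getElem _ _ (by simpa using h)]; simp
  · rw [List.getD_eq_default _ _ (by simpa using h)]

section model

variable {C : Nat} {inv : Nat → Nat} {R S : List (List Nat)} {n : Nat} (D : PermData C inv R S n)
  {K : Type} [Group K] (u : Nat → K) (Ψ : K →* Equiv.Perm (Fin (n + 1))) (hΨ : ∀ c, Ψ (u c) = D.pv c)
  (hΨi : Function.Injective Ψ)

include hΨ hΨi in
lemma model_eq_one (W : List Nat) (hW : ∀ c ∈ W, c < C) (h : ∀ i, i < n + 1 → pwalk D.pt W i = i) :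
    wval u W = 1 := by
  apply hΨi
  rw [map_wval Ψ u _ hΨ, D.pv_eq_one W hW h, map_one]

include hΨ in
lemma model_ne (W W' : List Nat) (hW : ∀ c ∈ W, c < C) (hW' : ∀ c ∈ W', c < C) (i : Nat) (hi : i < n + 1)
    (h : pwalk D.pt W i ≠ pwalk D.pt W' i) : wval u W ≠ wval u W' := by
  intro he
  apply h
  rw [← walk_of_hom u D Ψ hΨ W hW ⟨i, hi⟩, ← walk_of_hom u D Ψ hΨ W' hW' ⟨i, hi⟩, he]

include hΨ hΨi in
/-- double cover recognition inside a faithful permutation model -/
theorem cover_of_model {F : Type} [Group F] (IF : PresIface F) [IsSimpleGroup F]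
    (hna : ∃ a b : F, a * b ≠ b * a) (τ : Nat → Nat)
    (hinvF : ∀ c, IF.inv c = c) (hτC : ∀ c, c < IF.C → τ c < C)
    (hRC : ∀ b ∈ IF.R, ∀ c ∈ b, c < IF.C)
    (zw : List Nat) (hzC : ∀ c ∈ zw, c < IF.C)
    (hR : ∀ b ∈ IF.R, b.map τ ∈ R ∨ b = zw)
    (hsq : ∀ c, c < IF.C → ∀ i, i < n + 1 → pwalk D.pt [τ c, τ c] i = i)
    (hzc : ∀ c, c < IF.C → ∀ i, i < n + 1 → pwalk D.pt ((zw ++ c :: (zw ++ [c])).map τ) i = i)
    (hzz : ∀ i, i < n + 1 → pwalk D.pt ((zw ++ zw).map τ) i = i)
    (i1 : Nat) (hi1 : i1 < n + 1) (hz1 : pwalk D.pt (zw.map τ) i1 ≠ pwalk D.pt [] i1)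
    (x : Nat) (hx : x < IF.C) (i2 : Nat) (hi2 : i2 < n + 1) (hx1 : pwalk D.pt [τ x] i2 ≠ pwalk D.pt [] i2)
    (i3 : Nat) (hi3 : i3 < n + 1) (hx2 : pwalk D.pt [τ x] i3 ≠ pwalk D.pt (zw.map τ) i3)
    (Rp : List (List Nat)) (hRp : ∀ b ∈ Rp, b.map τ ∈ R) (hRpC : ∀ b ∈ Rp, ∀ c ∈ b, c < IF.C)
    (Dp : CertData IF.C IF.inv (commWords IF.C IF.inv ++ Rp) [] 1) :
    Cfsg.IsNonsplitDoubleCover (wsub u ((allWords IF.C).map (List.map τ))) F ∧
      Nat.card (wsub u ((allWords IF.C).map (List.map τ))) = 2 * Nat.card F := by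
  have hmapC : ∀ W : List Nat, (∀ c ∈ W, c < IF.C) → ∀ c ∈ W.map τ, c < C := by
    intro W hW c hc
    obtain ⟨c', hc', rfl⟩ := List.mem_map.mp hc
    exact hτC c' (hW c' hc')
  have hrel : ∀ b ∈ R, wval u b = 1 := by
    intro b hb
    apply hΨi
    rw [map_wval Ψ u _ hΨ, D.pv_rel b hb, map_one]
  have hzC' := hmapC zw hzC
  have hxC : ∀ c ∈ [τ x], c < C := by
    intro c hc
    rw [List.mem_singleton] at hc
    rw [hc]; exact hτC x hx
  have hnil : ∀ c ∈ ([] : List Nat), c < C := by intro c hc; simp at hc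
  have hux : u (τ x) = wval u [τ x] := by simp
  apply cover_of_words IF hna u τ hinvF
    (fun c hc => by
      have := model_eq_one D u Ψ hΨ hΨi [τ c, τ c]
        (by intro c' hc'; simp only [List.mem_cons, List.not_mem_nil, or_false, or_self] at hc'
            rw [hc']; exact hτC c hc) (hsq c hc)
      simpa using this)
    hRC zw hzC
    (fun b hb => (hR b hb).imp (fun h => hrel _ h) id)
    (fun c hc => model_eq_one D u Ψ hΨ hΨi _
      (hmapC _ (by
        intro c' hc'
        simp only [List.mem_append, List.mem_cons, List.not_mem_nil, or_false] at hc'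
        rcases hc' with h | h | h | h
        · exact hzC c' h
        · rw [h]; exact hc
        · exact hzC c' h
        · rw [h]; exact hc)) (hzc c hc))
    (model_eq_one D u Ψ hΨ hΨi _
      (hmapC _ (by
        intro c' hc'
        rcases List.mem_append.mp hc' with h | h <;> exact hzC c' h)) hzz)
    (model_ne D u Ψ hΨ _ [] hzC' hnil i1 hi1 hz1)
    x hx
    (by rw [hux]; exact model_ne D u Ψ hΨ _ [] hxC hnil i2 hi2 hx1)
    (by rw [hux]; exact model_ne D u Ψ hΨ _ _ hxC hzC' i3 hi3 hx2)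
    Rp (fun b hb => hrel _ (hRp b hb)) hRpC Dp

end model

/-- words in letters which are already generators can be added to a generating list -/
lemma wsub_append_of_letters {G : Type*} [Group G] (val : Nat → G) (W W' : List (List Nat))
    (h : ∀ s ∈ W', ∀ c ∈ s, [c] ∈ W) : wsub val (W ++ W') = wsub val W := by
  apply le_antisymm
  · unfold wsub
    rw [Subgroup.closure_le]
    rintro _ ⟨s, hs, rfl⟩
    rcases List.mem_append.mp hs with hs | hs
    · exact mem_wsub val W s hs
    · have key : ∀ t : List Nat, (∀ c ∈ t, [c] ∈ W) → wval val t ∈ wsub val W := by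
        intro t
        induction t with
        | nil => intro _; exact (wsub val W).one_mem
        | cons c t ih =>
          intro ht
          rw [wval_cons]
          apply (wsub val W).mul_mem
          · have := mem_wsub val W [c] (ht c List.mem_cons_self)
            simpa using this
          · exact ih (fun c' hc' => ht c' (List.mem_cons_of_mem _ hc'))
      exact key s (h s hs)
  · exact wsub_mono val _ _ (fun s hs => List.mem_append_left _ hs)

end Cfsg.Agent.Lib.Helper35
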