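import Cfsg.Agent.Lib.Helper35.Cert

/-! Orbits of the subgroup on its cosets, from a labelling table. -/

namespace Cfsg.Agent.Lib.Helper35

/-- number of `i < n` with `f i = true`. -/
noncomputable def countBelow (f : Nat → Bool) (n : Nat) : Nat :=
  Nat.rec 0 (fun m ih => match f m with | true => Nat.succ ih | false => ih) n

lemma countBelow_spec (f : Nat → Bool) (n : Nat) :
    countBelow f n = ((Finset.range n).filter (fun v => f v = true)).card := by
  induction n with
  | zero => simp [countBelow]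
  | succ m ih =>
    have hs : countBelow f (m + 1) =
      (match f m with | true => Nat.succ (countBelow f m) | false => countBelow f m) := rfl
    rw [hs, Finset.range_add_one, Finset.filter_insert]
    cases hf : f m with
    | false =>
      simp only [Bool.false_eq_true, if_false]
      exact ih
    | true =>
      simp only [if_true]
      rw [Finset.card_insert_of_notMem (by simp), ih]

noncomputable def orbInv {pt : Nat → Nat → Nat} (ot : Nat → Nat) (db : Nat) (ls : List (PLeaf pt)) (j : Nat) : Bool :=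
  List.rec true (fun lf _ ih =>
    Bool.rec false ih (Nat.beq (Nat.shiftRight (ot (lf.f j)) db) (Nat.shiftRight (ot j) db))) ls

noncomputable def orbDec {pt : Nat → Nat → Nat} (ot : Nat → Nat) (ls : List (PLeaf pt)) (j : Nat) : Bool :=
  List.rec false (fun lf _ ih => Bool.rec ih true (Nat.ble (Nat.succ (ot (lf.f j))) (ot j))) ls

noncomputable def orbChk {pt : Nat → Nat → Nat} (ot : Nat → Nat) (db : Nat) (rep : Nat → Nat)
    (ls : List (PLeaf pt)) (j : Nat) : Bool :=
  match orbInv ot db ls j with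
  | false => false
  | true =>
    match orbDec ot ls j with
    | true => true
    | false => Nat.beq j (rep (Nat.shiftRight (ot j) db))

lemma orbInv_spec {pt : Nat → Nat → Nat} (ot : Nat → Nat) (db : Nat) (ls : List (PLeaf pt)) (j : Nat)
    (h : orbInv ot db ls j = true) :
    ∀ lf ∈ ls, Nat.shiftRight (ot (pwalk pt lf.W j)) db = Nat.shiftRight (ot j) db := by
  induction ls with
  | nil => intro lf hlf; simp at hlf
  | cons a ls ih =>
    have h' : (Bool.rec false (orbInv ot db ls j)
      (Nat.beq (Nat.shiftRight (ot (a.f j)) db) (Nat.shiftRight (ot j) db)) : Bool) = true := h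
    obtain ⟨h1, h2⟩ := boolrec_and h'
    intro lf hlf
    rcases List.mem_cons.mp hlf with rfl | hlf
    · rw [← lf.hf]; exact Nat.eq_of_beq_eq_true h1
    · exact ih h2 lf hlf

lemma orbDec_spec {pt : Nat → Nat → Nat} (ot : Nat → Nat) (ls : List (PLeaf pt)) (j : Nat)
    (h : orbDec ot ls j = true) : ∃ lf ∈ ls, ot (pwalk pt lf.W j) < ot j := by
  induction ls with
  | nil => simp [orbDec] at h
  | cons a ls ih =>
    have h' : (Bool.rec (orbDec ot ls j) true (Nat.ble (Nat.succ (ot (a.f j))) (ot j)) : Bool) = true := h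
    cases hc : Nat.ble (Nat.succ (ot (a.f j))) (ot j) with
    | true =>
      refine ⟨a, List.mem_cons_self, ?_⟩
      rw [← a.hf]
      exact Nat.le_of_ble_eq_true hc
    | false =>
      rw [hc] at h'
      obtain ⟨lf, hlf, hlt⟩ := ih h'
      exact ⟨lf, List.mem_cons_of_mem _ hlf, hlt⟩

lemma orbChk_spec {pt : Nat → Nat → Nat} (ot : Nat → Nat) (db : Nat) (rep : Nat → Nat)
    (ls : List (PLeaf pt)) (j : Nat) (h : orbChk ot db rep ls j = true) :
    (∀ lf ∈ ls, Nat.shiftRight (ot (pwalk pt lf.W j)) db = Nat.shiftRight (ot j) db) ∧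
    ((∃ lf ∈ ls, ot (pwalk pt lf.W j) < ot j) ∨ j = rep (Nat.shiftRight (ot j) db)) := by
  unfold orbChk at h
  cases h1 : orbInv ot db ls j with
  | false => rw [h1] at h; simp at h
  | true =>
    rw [h1] at h
    refine ⟨orbInv_spec _ _ _ _ h1, ?_⟩
    cases h2 : orbDec ot ls j with
    | true => exact Or.inl (orbDec_spec _ _ _ h2)
    | false =>
      rw [h2] at h
      exact Or.inr (Nat.eq_of_beq_eq_true h)

/-- equivariant bijection from the cosets to the points -/
theorem coset_equiv {G : Type*} [Group G] (H : Subgroup G) (m : Nat) (φ : G →* Equiv.Perm (Fin m))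
    (o : Fin m) (hH : ∀ h ∈ H, φ h o = o) (htrans : ∀ i, ∃ g, φ g o = i) (hidx : H.index = m) :
    ∃ f : G ⧸ H → Fin m, Function.Bijective f ∧ ∀ (g : G) (q : G ⧸ H), f (g • q) = φ g (f q) := by
  have hwd : ∀ a b : G, (QuotientGroup.leftRel H) a b → φ a o = φ b o := by
    intro a b hab
    rw [QuotientGroup.leftRel_apply] at hab
    have := hH _ hab
    rw [map_mul, map_inv, Equiv.Perm.mul_apply, Equiv.Perm.inv_eq_iff_eq] at this
    exact this.symm
  let f : G ⧸ H → Fin m := Quotient.lift (fun g => φ g o) hwd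
  have hf : ∀ g : G, f (g : G ⧸ H) = φ g o := fun g => rfl
  have hsurj : Function.Surjective f := by
    intro i
    obtain ⟨g, hg⟩ := htrans i
    exact ⟨(g : G ⧸ H), hg⟩
  have hm : 0 < m := Fin.pos o
  have : H.FiniteIndex := ⟨by omega⟩
  have : Finite (G ⧸ H) := Subgroup.finite_quotient_of_finiteIndex
  refine ⟨f, ?_, ?_⟩
  · apply Function.Surjective.bijective_of_nat_card_le hsurj
    rw [Nat.card_fin]
    exact le_of_eq hidx
  · intro g q
    induction q using QuotientGroup.induction_on with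
    | H a =>
      rw [MulAction.Quotient.smul_mk, hf, hf, smul_eq_mul, map_mul, Equiv.Perm.mul_apply]

/-- labelling data for the orbits of the subgroup -/
structure OrbData {C : Nat} {inv : Nat → Nat} {R S : List (List Nat)} {n : Nat}
    (D : PermData C inv R S n) where
  sl : List (PLeaf D.pt)
  hsl : sl.map PLeaf.W = S
  ot : Nat → Nat
  db : Nat
  rep : Nat → Nat
  hchk : allBelow (orbChk ot db rep sl) (n + 1) = true

namespace OrbData

variable {C : Nat} {inv : Nat → Nat} {R S : List (List Nat)} {n : Nat} {D : PermData C inv R S n}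
  (O : OrbData D)

def lab (j : Nat) : Nat := Nat.shiftRight (O.ot j) O.db

lemma spec (j : Nat) (hj : j < n + 1) :
    (∀ s ∈ S, O.lab (pwalk D.pt s j) = O.lab j) ∧
    ((∃ s ∈ S, O.ot (pwalk D.pt s j) < O.ot j) ∨ j = O.rep (O.lab j)) := by
  obtain ⟨h1, h2⟩ := orbChk_spec _ _ _ _ _ (allBelow_spec _ _ O.hchk j hj)
  constructor
  · intro s hs
    have hs' : s ∈ O.sl.map PLeaf.W := by rw [O.hsl]; exact hs
    obtain ⟨lf, hlf, rfl⟩ := List.mem_map.mp hs'
    exact h1 lf hlf
  · rcases h2 with ⟨lf, hlf, hlt⟩ | h2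
    · left
      have hm : lf.W ∈ O.sl.map PLeaf.W := List.mem_map_of_mem hlf
      have hS : ∀ T : List (List Nat), O.sl.map PLeaf.W = T → lf.W ∈ T := fun T hT => hT ▸ hm
      exact ⟨lf.W, hS S O.hsl, hlt⟩
    · exact Or.inr h2

/-- the group generated by the subgroup words, in the permutation representation -/
def A : Subgroup (Equiv.Perm (Fin (n + 1))) := Subgroup.closure {g | ∃ s ∈ S, wval D.pv s = g}

lemma pv_inv_apply (s : List Nat) (hs : s ∈ S) (i : Fin (n + 1)) :
    (((wval D.pv s)⁻¹ i : Fin (n + 1)) : Nat) = pwalk D.pt s i.1 := by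
  rw [PermData.pv, wval_permVal_inv_apply _ _ _ _ _ _ _ s (D.hSC s hs)]

lemma lab_inv (a : Equiv.Perm (Fin (n + 1))) (ha : a ∈ A (D := D)) (i : Fin (n + 1)) :
    O.lab (a i).1 = O.lab i.1 := by
  induction ha using Subgroup.closure_induction generalizing i with
  | mem g hg =>
    obtain ⟨s, hs, rfl⟩ := hg
    have h := (O.spec ((wval D.pv s) i).1 ((wval D.pv s) i).2).1 s hs
    rw [← pv_inv_apply s hs] at h
    simpa using h.symm
  | one => rfl
  | mul a b _ _ iha ihb => rw [Equiv.Perm.mul_apply, iha, ihb]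
  | inv a _ iha =>
    have := iha (a⁻¹ i)
    simpa using this.symm

lemma reach (i : Fin (n + 1)) : ∃ a ∈ A (D := D), ((a i : Fin (n + 1)) : Nat) = O.rep (O.lab i.1) := by
  induction hk : O.ot i.1 using Nat.strong_induction_on generalizing i with
  | _ k ih =>
    rcases (O.spec i.1 i.2).2 with ⟨s, hs, hlt⟩ | h
    · rw [← pv_inv_apply s hs] at hlt
      obtain ⟨a, ha, hai⟩ := ih _ (hk ▸ hlt) ((wval D.pv s)⁻¹ i) rfl
      have hg : (wval D.pv s)⁻¹ ∈ A (D := D) :=
        Subgroup.inv_mem _ (Subgroup.subset_closure ⟨s, hs, rfl⟩)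
      refine ⟨a * (wval D.pv s)⁻¹, Subgroup.mul_mem _ ha hg, ?_⟩
      rw [Equiv.Perm.mul_apply, hai, O.lab_inv _ hg]
    · exact ⟨1, Subgroup.one_mem _, h⟩

end OrbData

theorem orbits_of_data {G : Type} [Group G] (I : PresIface G) (H : Subgroup G) (S : List (List Nat))
    (hH : H = Subgroup.closure {g | ∃ s ∈ S, wval I.val s = g}) (n : Nat)
    (D : PermData I.C I.inv I.R S n) (hidx : H.index = n + 1) (O : OrbData D) :
    ∃ L : G ⧸ H → Nat, ∀ k, O.rep k ≤ n → O.lab (O.rep k) = k →
      ∃ q : G ⧸ H, (∀ q', q' ∈ MulAction.orbit H q ↔ L q' = k) ∧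
        (MulAction.orbit H q).ncard = countBelow (fun j => Nat.beq (O.lab j) k) (n + 1) := by
  obtain ⟨φ, hφ⟩ := I.lift D.pv D.pv_one D.pv_inv D.pv_rel
  have hmap : H.map φ = OrbData.A (D := D) := by
    rw [hH, MonoidHom.map_closure]
    unfold OrbData.A
    congr 1
    ext g
    simp only [Set.mem_image, Set.mem_ofPred_eq]
    constructor
    · rintro ⟨_, ⟨s, hs, rfl⟩, rfl⟩
      exact ⟨s, hs, (map_wval φ I.val D.pv hφ s).symm⟩
    · rintro ⟨s, hs, rfl⟩
      exact ⟨_, ⟨s, hs, rfl⟩, map_wval φ I.val D.pv hφ s⟩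
  have hA0 : ∀ a ∈ OrbData.A (D := D), a 0 = 0 := by
    intro a ha
    induction ha using Subgroup.closure_induction with
    | mem g hg =>
      obtain ⟨s, hs, rfl⟩ := hg
      have := D.pv_sub s hs
      rw [Equiv.Perm.inv_eq_iff_eq] at this
      exact this.symm
    | one => simp
    | mul a b _ _ iha ihb => rw [Equiv.Perm.mul_apply, ihb, iha]
    | inv a _ iha => rw [Equiv.Perm.inv_eq_iff_eq, iha]
  have hH0 : ∀ h ∈ H, φ h 0 = 0 := by
    intro h hh
    apply hA0
    rw [← hmap]
    exact Subgroup.mem_map_of_mem φ hh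
  have htrans : ∀ i, ∃ g, φ g 0 = i := by
    intro i
    obtain ⟨W, hW⟩ := D.pv_reach i
    refine ⟨(wval I.val W)⁻¹, ?_⟩
    rw [map_inv, map_wval φ I.val D.pv hφ]
    exact hW
  obtain ⟨f, hfb, hfe⟩ := coset_equiv H (n + 1) φ 0 hH0 htrans hidx
  refine ⟨fun q => O.lab (f q).1, ?_⟩
  intro k hk1 hk2
  obtain ⟨q, hq⟩ := hfb.2 ⟨O.rep k, by omega⟩
  have hmem : ∀ q', q' ∈ MulAction.orbit H q ↔ O.lab (f q').1 = k := by
    intro q'
    constructor
    · rintro ⟨h, rfl⟩
      have h1 : f (h • q) = φ h.1 (f q) := hfe h.1 q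
      rw [h1, O.lab_inv _ (by rw [← hmap]; exact Subgroup.mem_map_of_mem φ h.2), hq]
      exact hk2
    · intro hl
      obtain ⟨a, ha, hai⟩ := O.reach (f q')
      rw [← hmap] at ha
      obtain ⟨h, hh, rfl⟩ := Subgroup.mem_map.mp ha
      refine ⟨⟨h, hh⟩⁻¹, ?_⟩
      apply hfb.1
      have h1 : f ((⟨h, hh⟩ : H)⁻¹ • q) = φ h⁻¹ (f q) := hfe h⁻¹ q
      rw [h1, map_inv, Equiv.Perm.inv_eq_iff_eq, hq]
      apply Fin.ext
      rw [hai, hl]
  refine ⟨q, hmem, ?_⟩
  rw [← Set.ncard_image_of_injective _ hfb.1, countBelow_spec]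
  have himg : f '' MulAction.orbit H q = {i : Fin (n + 1) | O.lab i.1 = k} := by
    ext i
    constructor
    · rintro ⟨q', hq', rfl⟩
      exact (hmem q').1 hq'
    · intro hi
      obtain ⟨q', rfl⟩ := hfb.2 i
      exact ⟨q', (hmem q').2 hi, rfl⟩
  rw [himg]
  have : ((Finset.range (n + 1)).filter (fun v => Nat.beq (O.lab v) k = true)) =
      ((Finset.univ : Finset (Fin (n + 1))).filter (fun i => O.lab i.1 = k)).map Fin.valEmbedding := by
    ext v
    simp only [Finset.mem_filter, Finset.mem_range, Finset.mem_map, Finset.mem_univ, true_and,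
      Fin.valEmbedding_apply]
    constructor
    · rintro ⟨hv, hb⟩
      exact ⟨⟨v, hv⟩, Nat.eq_of_beq_eq_true hb, rfl⟩
    · rintro ⟨i, hi, rfl⟩
      refine ⟨i.2, ?_⟩
      rw [hi]
      exact Nat.beq_refl k
  rw [this, Finset.card_map, ← Set.ncard_coe_finset]
  congr 1
  ext i
  simp

section

open Cfsg.Spor

variable {α : Type} [DecidableEq α] (edges : List (α × ℕ × α)) (extra : List (FreeGroup α))
  (D : CoxCols α) (extraL : List (List (α × Bool)))
  (R : List (List Nat)) (allGens : List α) (hall : ∀ a, a ∈ allGens) (hD : D.OK edges extraL R allGens)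
  (hextra : extra = extraL.map FreeGroup.mk)

include hall hD hextra in
/-- index and orbits for the subgroup of a Coxeter-style presented group generated by words. -/
theorem cox_index_orbits (X : Set (FreeGroup α)) (SL : List (List (α × Bool)))
    (hX : X = {x | x ∈ SL.map FreeGroup.mk}) (S : List (List Nat)) (hS : S = SL.map (List.map D.colOf))
    (n : Nat) (PD : PermData D.C D.inv R S n) (CD : CertData D.C D.inv R S (n + 1)) (O : OrbData PD) :
    ((Subgroup.closure X).map (PresentedGroup.mk (coxRelators edges ∪ {r | r ∈ extra}))).index = n + 1 ∧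
    ∃ L : CoxPresented α edges extra ⧸
        ((Subgroup.closure X).map (PresentedGroup.mk (coxRelators edges ∪ {r | r ∈ extra}))) → Nat,
      ∀ k, O.rep k ≤ n → O.lab (O.rep k) = k →
      ∃ q, (∀ q', q' ∈ MulAction.orbit
          ((Subgroup.closure X).map (PresentedGroup.mk (coxRelators edges ∪ {r | r ∈ extra}))) q ↔ L q' = k) ∧
        (MulAction.orbit
          ((Subgroup.closure X).map (PresentedGroup.mk (coxRelators edges ∪ {r | r ∈ extra}))) q).ncard =
          countBelow (fun j => Nat.beq (O.lab j) k) (n + 1) := by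
  have hidx := cox_index edges extra D extraL R allGens hall hD hextra X SL hX S hS n PD CD
  subst hS
  exact ⟨hidx, orbits_of_data (coxIface edges extra D extraL R allGens hall hD hextra) _ _
    (cox_map_closure edges extra D extraL R allGens hall hD hextra X SL hX) n PD hidx O⟩

end

end Cfsg.Agent.Lib.Helper35
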