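import Cfsg.Prelude.Def_Spor_Fi24
import Cfsg.Agent.Lib.Helper35.Orbit

namespace Cfsg.Agent.Lib.Helper35.PresFi24

open Cfsg.Spor

def colIdx : Fi24.Gen → Nat
  | .l => 0
  | .k => 1
  | .a => 2
  | .b => 3
  | .c => 4
  | .d => 5
  | .e => 6
  | .f => 7
  | .g => 8
  | .j => 9
  | .h => 10
  | .i => 11
def cc : CoxCols Fi24.Gen := ⟨[0, 1, 2, 3, 4, 5, 6, 7, 8, 9, 10, 11], colIdx,
  [(.l, true), (.k, true), (.a, true), (.b, true), (.c, true), (.d, true), (.e, true), (.f, true), (.g, true), (.j, true), (.h, true), (.i, true)]⟩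
def extraL : List (List (Fi24.Gen × Bool)) := [
  [(.l, true), (.h, false), (.f, false), (.e, false), (.d, false), (.c, false), (.b, false), (.a, false), (.h, false), (.f, false), (.e, false), (.d, false), (.c, false), (.b, false), (.a, false), (.h, false), (.f, false), (.e, false), (.d, false), (.c, false), (.b, false), (.a, false), (.h, false), (.f, false), (.e, false), (.d, false), (.c, false), (.b, false), (.a, false), (.h, false), (.f, false), (.e, false), (.d, false), (.c, false), (.b, false), (.a, false), (.h, false), (.f, false), (.e, false), (.d, false), (.c, false), (.b, false), (.a, false), (.h, false), (.f, false), (.e, false), (.d, false), (.c, false), (.b, false), (.a, false), (.h, false), (.f, false), (.e, false), (.d, false), (.c, false), (.b, false), (.a, false), (.h, false), (.f, false), (.e, false), (.d, false), (.c, false), (.b, false), (.a, false)],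
  [(.d, true), (.c, true), (.b, true), (.a, true), (.k, true), (.l, true), (.d, true), (.e, true), (.f, true), (.g, true), (.j, true), (.d, true), (.h, true), (.i, true), (.d, true), (.c, true), (.b, true), (.a, true), (.k, true), (.l, true), (.d, true), (.e, true), (.f, true), (.g, true), (.j, true), (.d, true), (.h, true), (.i, true), (.d, true), (.c, true), (.b, true), (.a, true), (.k, true), (.l, true), (.d, true), (.e, true), (.f, true), (.g, true), (.j, true), (.d, true), (.h, true), (.i, true), (.d, true), (.c, true), (.b, true), (.a, true), (.k, true), (.l, true), (.d, true), (.e, true), (.f, true), (.g, true), (.j, true), (.d, true), (.h, true), (.i, true), (.d, true), (.c, true), (.b, true), (.a, true), (.k, true), (.l, true), (.d, true), (.e, true), (.f, true), (.g, true), (.j, true), (.d, true), (.h, true), (.i, true), (.d, true), (.c, true), (.b, true), (.a, true), (.k, true), (.l, true), (.d, true), (.e, true), (.f, true),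 (.g, true), (.j, true), (.d, true), (.h, true), (.i, true), (.d, true), (.c, true), (.b, true), (.a, true), (.k, true), (.l, true), (.d, true), (.e, true), (.f, true), (.g, true), (.j, true), (.d, true), (.h, true), (.i, true), (.d, true), (.c, true), (.b, true), (.a, true), (.k, true), (.l, true), (.d, true), (.e, true), (.f, true), (.g, true), (.j, true), (.d, true), (.h, true), (.i, true), (.d, true), (.c, true), (.b, true), (.a, true), (.k, true), (.l, true), (.d, true), (.e, true), (.f, true), (.g, true), (.j, true), (.d, true), (.h, true), (.i, true), (.d, true), (.c, true), (.b, true), (.a, true), (.k, true), (.l, true), (.d, true), (.e, true), (.f, true), (.g, true), (.j, true), (.d, true), (.h, true), (.i, true), (.d, true), (.c, true), (.b, true), (.a, true), (.k, true), (.l, true), (.d, true), (.e, true), (.f, true), (.g, true), (.j, true), (.d, true), (.h, true), (.i, true), (.d, true), (.c, true), (.b, true), (.a, true),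 (.k, true), (.l, true), (.d, true), (.e, true), (.f, true), (.g, true), (.j, true), (.d, true), (.h, true), (.i, true), (.d, true), (.c, true), (.b, true), (.a, true), (.k, true), (.l, true), (.d, true), (.e, true), (.f, true), (.g, true), (.j, true), (.d, true), (.h, true), (.i, true), (.d, true), (.c, true), (.b, true), (.a, true), (.k, true), (.l, true), (.d, true), (.e, true), (.f, true), (.g, true), (.j, true), (.d, true), (.h, true), (.i, true), (.d, true), (.c, true), (.b, true), (.a, true), (.k, true), (.l, true), (.d, true), (.e, true), (.f, true), (.g, true), (.j, true), (.d, true), (.h, true), (.i, true), (.d, true), (.c, true), (.b, true), (.a, true), (.k, true), (.l, true), (.d, true), (.e, true), (.f, true), (.g, true), (.j, true), (.d, true), (.h, true), (.i, true), (.d, true), (.c, true), (.b, true), (.a, true), (.k, true), (.l, true), (.d, true), (.e, true), (.f, true), (.g, true), (.j, true), (.d, true), (.h, true),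 (.i, true)]]
def R : List (List Nat) := [[0, 1, 0, 1, 0, 1],
  [0, 2, 0, 2],
  [0, 3, 0, 3],
  [0, 4, 0, 4],
  [0, 5, 0, 5],
  [0, 6, 0, 6],
  [0, 7, 0, 7],
  [0, 8, 0, 8],
  [0, 9, 0, 9],
  [0, 10, 0, 10],
  [0, 11, 0, 11],
  [1, 2, 1, 2, 1, 2],
  [1, 3, 1, 3],
  [1, 4, 1, 4],
  [1, 5, 1, 5],
  [1, 6, 1, 6],
  [1, 7, 1, 7],
  [1, 8, 1, 8],
  [1, 9, 1, 9],
  [1, 10, 1, 10],
  [1, 11, 1, 11],
  [2, 3, 2, 3, 2, 3],
  [2, 4, 2, 4],
  [2, 5, 2, 5],
  [2, 6, 2, 6],
  [2, 7, 2, 7],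
  [2, 8, 2, 8],
  [2, 9, 2, 9],
  [2, 10, 2, 10],
  [2, 11, 2, 11],
  [3, 4, 3, 4, 3, 4],
  [3, 5, 3, 5],
  [3, 6, 3, 6],
  [3, 7, 3, 7],
  [3, 8, 3, 8],
  [3, 9, 3, 9],
  [3, 10, 3, 10],
  [3, 11, 3, 11],
  [4, 5, 4, 5, 4, 5],
  [4, 6, 4, 6],
  [4, 7, 4, 7],
  [4, 8, 4, 8],
  [4, 9, 4, 9],
  [4, 10, 4, 10],
  [4, 11, 4, 11],
  [5, 6, 5, 6, 5, 6],
  [5, 7, 5, 7],
  [5, 8, 5, 8],
  [5, 9, 5, 9],
  [5, 10, 5, 10, 5, 10],
  [5, 11, 5, 11],
  [6, 7, 6, 7, 6, 7],
  [6, 8, 6, 8],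
  [6, 9, 6, 9],
  [6, 10, 6, 10],
  [6, 11, 6, 11],
  [7, 8, 7, 8, 7, 8],
  [7, 9, 7, 9],
  [7, 10, 7, 10],
  [7, 11, 7, 11],
  [8, 9, 8, 9, 8, 9],
  [8, 10, 8, 10],
  [8, 11, 8, 11],
  [9, 10, 9, 10],
  [9, 11, 9, 11],
  [10, 11, 10, 11, 10, 11],
  [0, 10, 7, 6, 5, 4, 3, 2, 10, 7, 6, 5, 4, 3, 2, 10, 7, 6, 5, 4, 3, 2, 10, 7, 6, 5, 4, 3, 2, 10, 7, 6, 5, 4, 3, 2, 10, 7, 6, 5, 4, 3, 2, 10, 7, 6, 5, 4, 3, 2, 10, 7, 6, 5, 4, 3, 2, 10, 7, 6, 5, 4, 3, 2],
  [5, 4, 3, 2, 1, 0, 5, 6, 7, 8, 9, 5, 10, 11, 5, 4, 3, 2, 1, 0, 5, 6, 7, 8, 9, 5, 10, 11, 5, 4, 3, 2, 1, 0, 5, 6, 7, 8, 9, 5, 10, 11, 5, 4, 3, 2, 1, 0, 5, 6, 7, 8, 9, 5, 10, 11, 5, 4, 3, 2, 1, 0, 5, 6, 7, 8, 9, 5, 10, 11, 5, 4, 3, 2, 1, 0, 5, 6, 7, 8, 9, 5, 10, 11, 5, 4, 3, 2, 1, 0, 5, 6, 7, 8, 9, 5, 10, 11, 5, 4, 3, 2, 1, 0, 5, 6, 7, 8, 9, 5, 10, 11, 5, 4, 3, 2, 1, 0, 5, 6, 7, 8, 9, 5, 10, 11, 5, 4, 3, 2, 1, 0, 5, 6, 7, 8, 9, 5, 10, 11, 5, 4, 3, 2, 1, 0, 5, 6, 7, 8, 9, 5, 10, 11, 5, 4, 3,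 2, 1, 0, 5, 6, 7, 8, 9, 5, 10, 11, 5, 4, 3, 2, 1, 0, 5, 6, 7, 8, 9, 5, 10, 11, 5, 4, 3, 2, 1, 0, 5, 6, 7, 8, 9, 5, 10, 11, 5, 4, 3, 2, 1, 0, 5, 6, 7, 8, 9, 5, 10, 11, 5, 4, 3, 2, 1, 0, 5, 6, 7, 8, 9, 5, 10, 11, 5, 4, 3, 2, 1, 0, 5, 6, 7, 8, 9, 5, 10, 11]]
def allGens : List Fi24.Gen := [.l, .k, .a, .b, .c, .d, .e, .f, .g, .j, .h, .i]
theorem hall : ∀ x, x ∈ allGens := by intro x; cases x <;> decide
set_option maxRecDepth 1000000 in
theorem hextra : Fi24.extra = extraL.map FreeGroup.mk := rfl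
set_option maxRecDepth 100000 in
theorem hOK : cc.OK Fi24.edges extraL R allGens where
  hlen := by decide +kernel
  c1 := by
    have h : ∀ c ∈ List.range cc.C, ∀ p ∈ cc.cols[c]?, cc.colOf p = c := by decide +kernel
    exact h
  c2 := by decide +kernel
  c3 := by decide +kernel
  c4 := by
    have h : ∀ c ∈ List.range cc.C, ∀ p ∈ cc.cols[c]?,
      cc.cols[cc.inv c]? = some (p.1, !p.2) ∨ (cc.inv c = c ∧ p.1 ∈ coxNodes Fi24.edges) := by decide +kernel
    exact h
  c5 := by decide +kernel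
  e1 := by decide +kernel
  x1 := by decide +kernel
  r1 := by decide +kernel
theorem hinvC : ∀ c, c < cc.C → cc.inv c < cc.C := fun c hc => (hOK.c3 c (List.mem_range.mpr hc)).1
theorem hinv2 : ∀ c, c < cc.C → cc.inv (cc.inv c) = c := fun c hc => (hOK.c3 c (List.mem_range.mpr hc)).2
theorem hinvE : ∀ c, cc.C ≤ c → cc.inv c = c := fun c hc => inv_ge cc hOK.hlen c hc
theorem hRC : ∀ b ∈ R, ∀ c ∈ b, c < cc.C := by decide +kernel

end Cfsg.Agent.Lib.Helper35.PresFi24
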