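import Cfsg.Agent.Lib.Helper35.Orbit

/-! Variants of the certificate bundles which are cheaper to elaborate and can be checked in chunks. -/

namespace Cfsg.Agent.Lib.Helper35

def walkS (st : Nat → Nat → Nat → Nat) : List Nat → Nat → Nat → Nat
  | [], _, v => v
  | l :: W, off, v => walkS st W off (st l off v)

lemma walkS_eq (P : Par) (tabs : Nat → Nat) (st : Nat → Nat → Nat → Nat)
    (h : ∀ l off v, st l off v = step P (tabs l) off v) :
    ∀ W off v, walkS st W off v = walk P tabs W off v := by
  intro W
  induction W with
  | nil => intro off v; rfl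
  | cons l W ih =>
    intro off v
    show walkS st W off (st l off v) = walk P tabs W off (step P (tabs l) off v)
    rw [h, ih]

section conv

variable {wk wk' : List Nat → Nat → Nat → Nat} (h : ∀ W off v, wk W off v = wk' W off v)

def Leaf.conv (r : Leaf wk) : Leaf wk' :=
  ⟨r.W1, r.W2, r.bidx, r.rot, r.f1, r.f2, r.zf, fun off v => (r.hf1 off v).trans (h _ _ _),
    fun off v => (r.hf2 off v).trans (h _ _ _)⟩

def RTree.conv : RTree wk → RTree wk'
  | .fork r => .fork (r.conv h)
  | .sub r => .sub (r.conv h)
  | .tleaf => .tleaf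
  | .node k L R => .node k (RTree.conv L) (RTree.conv R)

lemma RTree.run_conv (pe : Nat → Nat) (cK l : Nat) (t : RTree wk) :
    (t.conv h).run pe cK l = t.run pe cK l := by
  induction t with
  | fork r => rfl
  | sub r => rfl
  | tleaf => rfl
  | node k L R ihL ihR =>
    funext rid v u off p
    show (Bool.rec ((L.conv h).run pe cK l rid v u off p) ((R.conv h).run pe cK l rid v u off p)
      (Nat.ble k rid) : Bool) = Bool.rec (L.run pe cK l rid v u off p) (R.run pe cK l rid v u off p) (Nat.ble k rid)
    rw [ihL, ihR]

lemma treeChk_conv (inv : Nat → Nat) (E : Nat) (bases subb : List (List Nat)) (l : Nat) (t : RTree wk) :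
    treeChk inv E bases subb l (t.conv h) = treeChk inv E bases subb l t := by
  induction t with
  | fork r => rfl
  | sub r => rfl
  | tleaf => rfl
  | node k L R ihL ihR =>
    show (treeChk inv E bases subb l (L.conv h) && treeChk inv E bases subb l (R.conv h)) =
      (treeChk inv E bases subb l L && treeChk inv E bases subb l R)
    rw [ihL, ihR]

lemma chkSlot_conv (P : Par) (A : Nat) (je pe : Nat → Nat) (rb mR cK : Nat) (dead : Nat → Bool)
    (bd : Nat → Nat) (t : RTree wk) (l v : Nat) :
    chkSlot P A je pe rb mR cK dead bd (t.conv h) l v = chkSlot P A je pe rb mR cK dead bd t l v := by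
  unfold chkSlot
  rw [RTree.run_conv]

end conv

lemma allSlots_of_forall (f : Nat → Bool) (N : Nat) (h : ∀ v, 1 ≤ v → v ≤ N → f v = true) :
    allSlots f N = true := by
  induction N with
  | zero => rfl
  | succ m ih =>
    have hs : allSlots f (m + 1) = (match f (Nat.succ m) with | true => allSlots f m | false => false) := rfl
    rw [hs, h (Nat.succ m) (by omega) (by omega)]
    exact ih (fun v h1 h2 => h v h1 (by omega))

lemma allBelow_of_forall (f : Nat → Bool) (n : Nat) (h : ∀ i, i < n → f i = true) :
    allBelow f n = true := by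
  induction n with
  | zero => rfl
  | succ m ih =>
    have hs : allBelow f (m + 1) = (match f m with | true => allBelow f m | false => false) := rfl
    rw [hs, h m (by omega)]
    exact ih (fun v h1 => h v (by omega))

lemma slots_zero (f : Nat → Bool) : ∀ v, 1 ≤ v → v ≤ 0 → f v = true := by
  intro v h1 h2; omega

lemma slots_step (f : Nat → Bool) (a len b : Nat) (h1 : ∀ v, 1 ≤ v → v ≤ a → f v = true)
    (h2 : allBelow (fun k => f (Nat.add (Nat.succ a) k)) len = true) (hb : Nat.add a len = b) :
    ∀ v, 1 ≤ v → v ≤ b → f v = true := by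
  intro v hv1 hv2
  have hb' : a + len = b := hb
  rcases Nat.lt_or_ge a v with hlt | hge
  · have := allBelow_spec _ _ h2 (v - (a + 1)) (by omega)
    have he : Nat.add (Nat.succ a) (v - (a + 1)) = v := by
      show (a + 1) + (v - (a + 1)) = v
      omega
    rwa [he] at this
  · exact h1 v hv1 hge

lemma below_zero (f : Nat → Bool) : ∀ i, i < 0 → f i = true := by
  intro v h1; omega

lemma below_step (f : Nat → Bool) (a len b : Nat) (h1 : ∀ i, i < a → f i = true)
    (h2 : allBelow (fun k => f (Nat.add a k)) len = true) (hb : Nat.add a len = b) :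
    ∀ i, i < b → f i = true := by
  intro v hv
  have hb' : a + len = b := hb
  rcases Nat.lt_or_ge v a with hlt | hge
  · exact h1 v hlt
  · have := allBelow_spec _ _ h2 (v - a) (by omega)
    have he : Nat.add a (v - a) = v := by
      show a + (v - a) = v
      omega
    rwa [he] at this

lemma countBelow_add (f : Nat → Bool) (a len : Nat) :
    countBelow f (a + len) = countBelow f a + countBelow (fun k => f (Nat.add a k)) len := by
  induction len with
  | zero => rfl
  | succ m ih =>
    have hs : countBelow f (a + m + 1) =
      (match f (a + m) with | true => Nat.succ (countBelow f (a + m)) | false => countBelow f (a + m)) := rfl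
    have hs2 : countBelow (fun k => f (Nat.add a k)) (m + 1) =
      (match f (Nat.add a m) with
        | true => Nat.succ (countBelow (fun k => f (Nat.add a k)) m)
        | false => countBelow (fun k => f (Nat.add a k)) m) := rfl
    rw [← Nat.add_assoc, hs, hs2, ih]
    have : Nat.add a m = a + m := rfl
    rw [this]
    cases f (a + m)
    · rfl
    · rfl

lemma countBelow_step (f : Nat → Bool) (a len b c d e : Nat) (h1 : countBelow f a = c)
    (h2 : countBelow (fun k => f (Nat.add a k)) len = d) (hb : Nat.add a len = b) (he : Nat.add c d = e) :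
    countBelow f b = e := by
  rw [← hb, ← he, ← h1, ← h2]
  exact countBelow_add f a len

lemma countSlots_eq_countBelow (f : Nat → Bool) (N : Nat) :
    countSlots f N = countBelow (fun k => f (Nat.succ k)) N := by
  induction N with
  | zero => rfl
  | succ m ih =>
    have hs : countSlots f (m + 1) =
      (match f (Nat.succ m) with | true => Nat.succ (countSlots f m) | false => countSlots f m) := rfl
    have hs2 : countBelow (fun k => f (Nat.succ k)) (m + 1) =
      (match f (Nat.succ m) with
        | true => Nat.succ (countBelow (fun k => f (Nat.succ k)) m)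
        | false => countBelow (fun k => f (Nat.succ k)) m) := rfl
    rw [hs, hs2, ih]

/-- A bundled coset enumeration certificate, second form. -/
structure CertData2 (C : Nat) (inv : Nat → Nat) (R S : List (List Nat)) (n : Nat) where
  P : Par
  hP : P.WF
  tabs : Nat → Nat
  N : Nat
  st : Nat → Nat → Nat → Nat
  hst : ∀ l off v, st l off v = step P (tabs l) off v
  trees : Nat → RTree (walkS st)
  je : Nat → Nat → Nat
  pe : Nat → Nat
  rb : Nat
  mR : Nat
  cK : Nat
  hcK : C < cK
  htree : ∀ l, l ≤ C → treeChk inv C (fullBases C inv R) (fullSub inv S) l (trees l) = true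
  hN : N < 2 ^ P.tb
  hN1 : 1 ≤ N
  hlo : ∀ l, l ≤ C → Nat.land (tabs l) P.mE = 0
  hhi : ∀ l, l ≤ C → Nat.shiftRight (tabs l) (P.M * (N + 1)) = 0
  hz : ∀ l, C < l → tabs l = 0
  hcol : ∀ l, l < C → ∀ v, 1 ≤ v → v ≤ N → chkSlot P (tabs l) (je l) pe rb mR cK (deadF P (tabs C))
      (fun _ => N) (trees l) l v = true
  heps : ∀ v, 1 ≤ v → v ≤ N → chkSlot P (tabs C) (je C) pe rb mR cK (fun _ => true)
      (fun v => Nat.pred v) (trees C) C v = true
  hcount : countBelow (fun k => liveF P (tabs C) (Nat.succ k)) N = n

noncomputable def CertData2.toCertData {C : Nat} {inv : Nat → Nat} {R S : List (List Nat)} {n : Nat}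
    (D : CertData2 C inv R S n) : CertData C inv R S n where
  P := D.P
  hP := D.hP
  tabs := D.tabs
  N := D.N
  trees := fun l => (D.trees l).conv (walkS_eq D.P D.tabs D.st D.hst)
  je := D.je
  pe := D.pe
  rb := D.rb
  mR := D.mR
  cK := D.cK
  hcK := D.hcK
  htree := fun l hl => by rw [treeChk_conv]; exact D.htree l hl
  hN := D.hN
  hN1 := D.hN1
  hlo := D.hlo
  hhi := D.hhi
  hz := D.hz
  hcol := fun l hl => allSlots_of_forall _ _ (fun v h1 h2 => by rw [chkSlot_conv]; exact D.hcol l hl v h1 h2)
  heps := allSlots_of_forall _ _ (fun v h1 h2 => by rw [chkSlot_conv]; exact D.heps v h1 h2)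
  hcount := by rw [countSlots_eq_countBelow]; exact D.hcount

end Cfsg.Agent.Lib.Helper35
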