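import Cfsg.Agent.Lib.Helper35.TCFast

/-! Orders of groups from chains of coset enumerations (upper bounds) and orbits (lower bounds). -/

namespace Cfsg.Agent.Lib.Helper35

section basic

variable {G : Type*} [Group G]

/-- subgroup generated by the values of a list of words -/
def wsub (val : Nat → G) (W : List (List Nat)) : Subgroup G :=
  Subgroup.closure {g | ∃ s ∈ W, wval val s = g}

lemma wsub_nil (val : Nat → G) : wsub val [] = ⊥ := by
  unfold wsub
  simp

lemma mem_wsub (val : Nat → G) (W : List (List Nat)) (s : List Nat) (hs : s ∈ W) : wval val s ∈ wsub val W :=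
  Subgroup.subset_closure ⟨s, hs, rfl⟩

lemma wsub_mono (val : Nat → G) (W W' : List (List Nat)) (h : ∀ s ∈ W', s ∈ W) : wsub val W' ≤ wsub val W := by
  apply Subgroup.closure_mono
  rintro g ⟨s, hs, rfl⟩
  exact ⟨s, h s hs, rfl⟩

def expand (W : List (List Nat)) (b : List Nat) : List Nat := b.flatMap (fun c => W.getD c [])

lemma wval_expand (val : Nat → G) (W : List (List Nat)) (b : List Nat) :
    wval (fun c => wval val (W.getD c [])) b = wval val (expand W b) := by
  induction b with
  | nil => rfl
  | cons c b ih =>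
    unfold expand at ih ⊢
    rw [wval_cons, List.flatMap_cons, wval_append, ih]

end basic

/-- One step of an upper bound chain. -/
theorem card_upper_step {G : Type*} [Group G] (val : Nat → G) (inv : Nat → Nat)
    (hinv : ∀ c, val (inv c) = (val c)⁻¹)
    (W W' : List (List Nat)) (invL : List Nat) (R' S' : List (List Nat)) (m : Nat)
    (hlen : invL.length = W.length)
    (hi : ∀ c ∈ List.range W.length, W.getD (invOf invL c) [] = invW inv (W.getD c []))
    (hR : ∀ b ∈ R', wval val (expand W b) = 1)
    (hS : S'.map (expand W) = W')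
    (D : CertData W.length (invOf invL) R' S' m) (hfinB : Finite (wsub val W')) :
    Finite (wsub val W) ∧ Nat.card (wsub val W) ≤ m * Nat.card (wsub val W') := by
  set A := wsub val W with hA
  set v : Nat → G := fun c => wval val (W.getD c []) with hv
  have hvA : ∀ c, v c ∈ A := by
    intro c
    rcases Nat.lt_or_ge c W.length with hc | hc
    · apply mem_wsub
      rw [List.getD_eq_getElem _ _ hc]
      exact List.getElem_mem hc
    · have : W.getD c [] = [] := List.getD_eq_default _ _ hc
      simp only [hv, this, wval_nil]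
      exact A.one_mem
  set v' : Nat → A := fun c => ⟨v c, hvA c⟩ with hv'
  have hcoe : ∀ b, ((wval v' b : A) : G) = wval val (expand W b) := by
    intro b
    rw [← wval_expand]
    exact map_wval A.subtype v' v (fun c => rfl) b
  have hval1 : ∀ c, W.length ≤ c → v' c = 1 := by
    intro c hc
    apply Subtype.ext
    have : W.getD c [] = [] := List.getD_eq_default _ _ hc
    show wval val (W.getD c []) = 1
    rw [this]; rfl
  have hinv' : ∀ c, v' (invOf invL c) = (v' c)⁻¹ := by
    intro c
    apply Subtype.ext
    show v (invOf invL c) = (v c)⁻¹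
    rcases Nat.lt_or_ge c W.length with hc | hc
    · simp only [hv]
      rw [hi c (List.mem_range.mpr hc), wval_invW val inv hinv]
    · have h1 : invOf invL c = c := by
        unfold invOf
        exact List.getD_eq_default _ _ (by omega)
      have : W.getD c [] = [] := List.getD_eq_default _ _ hc
      rw [h1]
      show wval val (W.getD c []) = (wval val (W.getD c []))⁻¹
      rw [this]; simp
  have hgen : Subgroup.closure {g : A | ∃ c, c < W.length ∧ v' c = g} = ⊤ := by
    have hset : {g : A | ∃ c, c < W.length ∧ v' c = g} =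
        ((↑) : Subgroup.closure {g | ∃ s ∈ W, wval val s = g} → G) ⁻¹' {g | ∃ s ∈ W, wval val s = g} := by
      ext g
      constructor
      · rintro ⟨c, hc, rfl⟩
        refine ⟨W.getD c [], ?_, rfl⟩
        rw [List.getD_eq_getElem _ _ hc]
        exact List.getElem_mem hc
      · rintro ⟨s, hs, hg⟩
        obtain ⟨c, hc, rfl⟩ := List.getElem_of_mem hs
        refine ⟨c, hc, Subtype.ext ?_⟩
        rw [← hg]
        show wval val (W.getD c []) = _
        rw [List.getD_eq_getElem _ _ hc]
    rw [hset]
    exact Subgroup.closure_closure_coe_preimage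
  have hR' : ∀ b ∈ R', wval v' b = 1 := by
    intro b hb
    apply Subtype.ext
    rw [hcoe, hR b hb]
    rfl
  set B := wsub val W' with hB
  have hBA : B ≤ A := by
    rw [hB, wsub, Subgroup.closure_le]
    rintro g ⟨s, hs, rfl⟩
    rw [← hS] at hs
    obtain ⟨s', _, rfl⟩ := List.mem_map.mp hs
    rw [← hcoe]
    exact (wval v' s').2
  have hsub : ∀ s ∈ S', wval v' s ∈ B.subgroupOf A := by
    intro s hs
    rw [Subgroup.mem_subgroupOf, hcoe]
    apply mem_wsub
    rw [← hS]
    exact List.mem_map_of_mem hs
  obtain ⟨hfin, hle⟩ := card_quot_le (B.subgroupOf A) D.P D.hP D.tabs W.length D.N m (invOf invL) v' hval1 hinv' hgen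
    (fullBases W.length (invOf invL) R') (fullSub (invOf invL) S')
    (wval_fullBases W.length (invOf invL) v' hinv' R' hR')
    (wval_fullSub (B.subgroupOf A) (invOf invL) v' hinv' S' hsub)
    D.trees D.je D.pe D.rb D.mR D.cK D.hcK D.htree D.hN D.hN1 D.hlo D.hhi D.hz D.hcol D.heps D.hcount
  have hcardB : Nat.card (B.subgroupOf A) = Nat.card B :=
    Nat.card_congr (Subgroup.subgroupOfEquivOfLe hBA).toEquiv
  have hfinB' : Finite (B.subgroupOf A) := Finite.of_equiv _ (Subgroup.subgroupOfEquivOfLe hBA).toEquiv.symm
  constructor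
  · exact Finite.of_equiv _ (Subgroup.groupEquivQuotientProdSubgroup (s := B.subgroupOf A)).symm
  · rw [Subgroup.card_eq_card_quotient_mul_card_subgroup (B.subgroupOf A), hcardB]
    exact Nat.mul_le_mul_right _ hle

/-! ### lower bounds -/

noncomputable def reachChk {pt : Nat → Nat → Nat} (ot : Nat → Nat) (big p : Nat) (ls : List (PLeaf pt)) (j : Nat) :
    Bool :=
  match Nat.ble big (ot j) with
  | true => true
  | false =>
    match orbDec ot ls j with
    | true => true
    | false => Nat.beq j p

def markF (ot : Nat → Nat) (big j : Nat) : Bool :=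
  match Nat.ble big (ot j) with
  | true => false
  | false => true

lemma markF_iff (ot : Nat → Nat) (big j : Nat) : markF ot big j = true ↔ ot j < big := by
  unfold markF
  cases h : Nat.ble big (ot j) with
  | true =>
    have := Nat.le_of_ble_eq_true h
    simp; omega
  | false =>
    simp only [true_iff]
    by_contra hc
    rw [Nat.ble_eq_true_of_le (by omega)] at h
    simp at h

lemma reachChk_spec {pt : Nat → Nat → Nat} (ot : Nat → Nat) (big p : Nat) (ls : List (PLeaf pt)) (j : Nat)
    (h : reachChk ot big p ls j = true) (hj : ot j < big) :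
    (∃ lf ∈ ls, ot (pwalk pt lf.W j) < ot j) ∨ j = p := by
  unfold reachChk at h
  cases h1 : Nat.ble big (ot j) with
  | true =>
    have := Nat.le_of_ble_eq_true h1
    omega
  | false =>
    rw [h1] at h
    cases h2 : orbDec ot ls j with
    | true => exact Or.inl (orbDec_spec _ _ _ h2)
    | false =>
      rw [h2] at h
      exact Or.inr (Nat.eq_of_beq_eq_true h)

/-- reachability certificate: `m` points can be moved to `p` by the words of `W`. -/
structure ReachData (pt : Nat → Nat → Nat) (n : Nat) (W : List (List Nat)) (p m : Nat) where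
  sl : List (PLeaf pt)
  hsl : sl.map PLeaf.W = W
  ot : Nat → Nat
  big : Nat
  hchk : ∀ j, j < n + 1 → reachChk ot big p sl j = true
  hcnt : countBelow (markF ot big) (n + 1) = m

/-- One step of a lower bound chain. -/
theorem card_lower_step {G : Type*} [Group G] [Finite G] (val : Nat → G) (W W' : List (List Nat))
    (hWW : ∀ s ∈ W', s ∈ W) (n : Nat) (φ : G →* Equiv.Perm (Fin (n + 1))) (pt : Nat → Nat → Nat)
    (hφ : ∀ s ∈ W, ∀ i : Fin (n + 1), (((φ (wval val s))⁻¹ i : Fin (n + 1)) : Nat) = pwalk pt s i.1)
    (p m : Nat) (hp : p < n + 1) (RD : ReachData pt n W p m) (hfix : ∀ s ∈ W', pwalk pt s p = p) :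
    m * Nat.card (wsub val W') ≤ Nat.card (wsub val W) := by
  classical
  set A := wsub val W with hA
  set B := wsub val W' with hB
  have hBA : B ≤ A := wsub_mono val W W' hWW
  set x0 : Fin (n + 1) := ⟨p, hp⟩ with hx0
  have hBfix : ∀ b ∈ B, φ b x0 = x0 := by
    intro b hb
    induction hb using Subgroup.closure_induction with
    | mem g hg =>
      obtain ⟨s, hs, rfl⟩ := hg
      have h1 : (φ (wval val s))⁻¹ x0 = x0 := by
        apply Fin.ext
        rw [hφ s (hWW s hs)]
        exact hfix s hs
      rw [Equiv.Perm.inv_eq_iff_eq] at h1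
      exact h1.symm
    | one => simp
    | mul a b _ _ iha ihb => rw [map_mul, Equiv.Perm.mul_apply, ihb, iha]
    | inv a _ iha => rw [map_inv, Equiv.Perm.inv_eq_iff_eq, iha]
  have hreach : ∀ i : Fin (n + 1), RD.ot i.1 < RD.big → ∃ a ∈ A, φ a i = x0 := by
    intro i
    induction hk : RD.ot i.1 using Nat.strong_induction_on generalizing i with
    | _ k ih =>
      intro hlt
      rcases reachChk_spec _ _ _ _ _ (RD.hchk i.1 i.2) (hk ▸ hlt) with ⟨lf, hlf, hdec⟩ | h
      · have hm : lf.W ∈ RD.sl.map PLeaf.W := List.mem_map_of_mem hlf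
        have hW : lf.W ∈ W := by rw [← RD.hsl]; exact hm
        rw [← hφ lf.W hW] at hdec
        obtain ⟨a, ha, hai⟩ := ih _ (hk ▸ hdec) ((φ (wval val lf.W))⁻¹ i) rfl (by omega)
        refine ⟨a * (wval val lf.W)⁻¹, A.mul_mem ha (A.inv_mem (mem_wsub val W _ hW)), ?_⟩
        rw [map_mul, map_inv, Equiv.Perm.mul_apply, hai]
      · exact ⟨1, A.one_mem, by rw [map_one]; exact Fin.ext h⟩
  letI : MulAction A (Fin (n + 1)) := MulAction.compHom _ (φ.comp A.subtype)
  have hsmul : ∀ (a : A) (i : Fin (n + 1)), a • i = φ a.1 i := fun _ _ => rfl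
  have h1 : Nat.card A = Nat.card (MulAction.orbit A x0) * Nat.card (MulAction.stabilizer A x0) := by
    rw [Subgroup.card_eq_card_quotient_mul_card_subgroup (MulAction.stabilizer A x0)]
    congr 1
    exact Nat.card_congr (MulAction.orbitEquivQuotientStabilizer A x0).symm
  have h2 : Nat.card B ≤ Nat.card (MulAction.stabilizer A x0) := by
    apply Nat.card_le_card_of_injective
      (fun b : B => (⟨⟨b.1, hBA b.2⟩, by
        rw [MulAction.mem_stabilizer_iff, hsmul]; exact hBfix b.1 b.2⟩ : MulAction.stabilizer A x0))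
    intro b b' hbb
    apply Subtype.ext
    have := congrArg (fun z : MulAction.stabilizer A x0 => (z.1.1 : G)) hbb
    exact this
  have h3 : m ≤ Nat.card (MulAction.orbit A x0) := by
    rw [← RD.hcnt, countBelow_spec]
    have hinj : ((Finset.range (n + 1)).filter (fun v => markF RD.ot RD.big v = true)).card =
        ((Finset.univ : Finset (Fin (n + 1))).filter (fun i => RD.ot i.1 < RD.big)).card := by
      rw [← Finset.card_map Fin.valEmbedding]
      congr 1
      ext v
      simp only [Finset.mem_filter, Finset.mem_range, Finset.mem_map, Finset.mem_univ, true_and,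
        Fin.valEmbedding_apply, markF_iff]
      constructor
      · rintro ⟨hv, hb⟩
        exact ⟨⟨v, hv⟩, hb, rfl⟩
      · rintro ⟨i, hi, rfl⟩
        exact ⟨i.2, hi⟩
    rw [hinj, Nat.card_coe_set_eq, ← Set.ncard_coe_finset]
    apply Set.ncard_le_ncard _ (Set.toFinite _)
    intro i hi
    simp only [Finset.coe_filter, Finset.mem_univ, true_and, Set.mem_ofPred_eq] at hi
    obtain ⟨a, ha, hai⟩ := hreach i hi
    refine ⟨(⟨a, ha⟩ : A)⁻¹, ?_⟩
    show φ (a⁻¹) x0 = i
    rw [map_inv, Equiv.Perm.inv_eq_iff_eq, hai]
  rw [h1]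
  exact Nat.mul_le_mul h3 h2

end Cfsg.Agent.Lib.Helper35
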