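import Cfsg.Agent.Lib.Helper35.TCMain

/-! Permutation representations from packed tables; lower bound for the index. -/

namespace Cfsg.Agent.Lib.Helper35

/-- `f i` holds for all `i < n`. -/
noncomputable def allBelow (f : Nat → Bool) (n : Nat) : Bool :=
  Nat.rec true (fun m ih => match f m with | true => ih | false => false) n

lemma allBelow_spec (f : Nat → Bool) (n : Nat) (h : allBelow f n = true) :
    ∀ i, i < n → f i = true := by
  induction n with
  | zero => intro i hi; omega
  | succ m ih =>
    have hs : allBelow f (m + 1) = (match f m with | true => allBelow f m | false => false) := rfl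
    rw [hs] at h
    intro i hi
    cases hf : f m with
    | false => rw [hf] at h; simp at h
    | true =>
      rw [hf] at h
      rcases Nat.lt_or_ge i m with hlt | hge
      · exact ih h i hlt
      · have : i = m := by omega
        rw [this]; exact hf

def pwalk (pt : Nat → Nat → Nat) : List Nat → Nat → Nat
  | [], i => i
  | c :: W, i => pwalk pt W (pt c i)

/-- a word with an unrolled evaluation function -/
structure PLeaf (pt : Nat → Nat → Nat) where
  W : List Nat
  f : Nat → Nat
  hf : ∀ i, f i = pwalk pt W i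

/-- all the words of the list fix `i`. -/
noncomputable def fixAll {pt : Nat → Nat → Nat} (ls : List (PLeaf pt)) (i : Nat) : Bool :=
  List.rec true (fun lf _ ih => Bool.rec false ih (Nat.beq (lf.f i) i)) ls

lemma fixAll_spec {pt : Nat → Nat → Nat} (ls : List (PLeaf pt)) (i : Nat) (h : fixAll ls i = true) :
    ∀ lf ∈ ls, pwalk pt lf.W i = i := by
  induction ls with
  | nil => intro lf hlf; simp at hlf
  | cons a ls ih =>
    have h' : (Bool.rec false (fixAll ls i) (Nat.beq (a.f i) i) : Bool) = true := h
    obtain ⟨h1, h2⟩ := boolrec_and h'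
    intro lf hlf
    rcases List.mem_cons.mp hlf with rfl | hlf
    · rw [← lf.hf]; exact Nat.eq_of_beq_eq_true h1
    · exact ih h2 lf hlf

/-- column check: `pt c i < n` and `pt c' (pt c i) = i`. -/
def invChk (p q : Nat → Nat) (n i : Nat) : Bool :=
  match Nat.ble n (p i) with
  | true => false
  | false => Nat.beq (q (p i)) i

lemma invChk_spec (p q : Nat → Nat) (n i : Nat) (h : invChk p q n i = true) : p i < n ∧ q (p i) = i := by
  unfold invChk at h
  cases h1 : Nat.ble n (p i) with
  | true => rw [h1] at h; simp at h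
  | false =>
    rw [h1] at h
    refine ⟨?_, Nat.eq_of_beq_eq_true h⟩
    by_contra hc
    have : Nat.ble n (p i) = true := Nat.ble_eq_true_of_le (by omega)
    rw [this] at h1
    simp at h1

/-- the permutation of `Fin n` given by a table function and its inverse. -/
def tblPerm (n : Nat) (p q : Nat → Nat) (h1 : ∀ i, i < n → p i < n ∧ q (p i) = i)
    (h2 : ∀ i, i < n → q i < n ∧ p (q i) = i) : Equiv.Perm (Fin n) where
  toFun i := ⟨p i.1, (h1 i.1 i.2).1⟩
  invFun i := ⟨q i.1, (h2 i.1 i.2).1⟩
  left_inv i := Fin.ext (h1 i.1 i.2).2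
  right_inv i := Fin.ext (h2 i.1 i.2).2

section

variable (n C : Nat) (pt : Nat → Nat → Nat) (inv : Nat → Nat)
  (hinvC : ∀ c, c < C → inv c < C) (hinv2 : ∀ c, c < C → inv (inv c) = c)
  (hchk : ∀ c, c < C → ∀ i, i < n → pt c i < n ∧ pt (inv c) (pt c i) = i)

/-- permutation attached to column `c` (identity for `c ≥ C`). -/
def colPerm (c : Nat) : Equiv.Perm (Fin n) :=
  if hc : c < C then
    tblPerm n (pt c) (pt (inv c)) (hchk c hc) (fun i hi => by
      have := hchk (inv c) (hinvC c hc) i hi
      rwa [hinv2 c hc] at this)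
  else 1

lemma colPerm_apply (c : Nat) (hc : c < C) (i : Fin n) :
    ((colPerm n C pt inv hinvC hinv2 hchk c) i).1 = pt c i.1 := by
  simp [colPerm, hc, tblPerm]

lemma colPerm_inv (c : Nat) (hc : c < C) :
    colPerm n C pt inv hinvC hinv2 hchk (inv c) = (colPerm n C pt inv hinvC hinv2 hchk c)⁻¹ := by
  rw [eq_inv_iff_mul_eq_one]
  ext i
  rw [Equiv.Perm.mul_apply, colPerm_apply _ _ _ _ _ _ _ _ (hinvC c hc), colPerm_apply _ _ _ _ _ _ _ _ hc]
  exact (hchk c hc i.1 i.2).2

/-- the value function: column `c` is sent to the inverse of its table permutation, so that the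
right action of a word is the table walk. -/
def permVal (c : Nat) : Equiv.Perm (Fin n) := (colPerm n C pt inv hinvC hinv2 hchk c)⁻¹

lemma wval_permVal_inv_apply (W : List Nat) (hW : ∀ c ∈ W, c < C) (i : Fin n) :
    (((wval (permVal n C pt inv hinvC hinv2 hchk) W)⁻¹ i : Fin n) : Nat) = pwalk pt W i.1 := by
  induction W generalizing i with
  | nil => simp [pwalk]
  | cons c W ih =>
    rw [wval_cons, mul_inv_rev, Equiv.Perm.mul_apply]
    rw [ih (fun c' hc' => hW c' (List.mem_cons_of_mem _ hc'))]
    show pwalk pt W _ = pwalk pt W (pt c i.1)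
    congr 1
    simp only [permVal, inv_inv]
    exact colPerm_apply _ _ _ _ _ _ _ _ (hW c List.mem_cons_self) i

lemma wval_permVal_eq_one (W : List Nat) (hW : ∀ c ∈ W, c < C) (h : ∀ i, i < n → pwalk pt W i = i) :
    wval (permVal n C pt inv hinvC hinv2 hchk) W = 1 := by
  rw [← inv_eq_one]
  ext i
  rw [wval_permVal_inv_apply _ _ _ _ _ _ _ W hW i]
  exact h i.1 i.2

end

/-- index from a transitive action in which `H` fixes a point, plus the upper bound. -/
theorem index_eq_of_action {G : Type*} [Group G] (H : Subgroup G) (n : Nat) (φ : G →* Equiv.Perm (Fin n))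
    (o : Fin n) (hH : ∀ h ∈ H, φ h o = o) (htrans : ∀ i, ∃ g, φ g o = i)
    (hfin : Finite (G ⧸ H)) (hle : Nat.card (G ⧸ H) ≤ n) : H.index = n := by
  letI : MulAction G (Fin n) := MulAction.compHom (Fin n) φ
  have hsmul : ∀ (g : G) (i : Fin n), g • i = φ g i := fun _ _ => rfl
  have hHS : H ≤ MulAction.stabilizer G o := by
    intro h hh
    rw [MulAction.mem_stabilizer_iff, hsmul]
    exact hH h hh
  have horb : MulAction.orbit G o = Set.univ := by
    ext i
    simp only [Set.mem_univ, iff_true]
    obtain ⟨g, hg⟩ := htrans i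
    exact ⟨g, hg⟩
  have hidx : (MulAction.stabilizer G o).index = n := by
    rw [MulAction.index_stabilizer, horb]
    simp
  have hdvd : n ∣ H.index := by
    rw [← hidx]
    exact Subgroup.index_dvd_of_le hHS
  have hne : H.index ≠ 0 := by
    haveI : H.FiniteIndex := Subgroup.finiteIndex_of_finite_quotient
    exact Subgroup.FiniteIndex.index_ne_zero
  have hle' : H.index ≤ n := hle
  exact Nat.le_antisymm hle' (Nat.le_of_dvd (Nat.pos_of_ne_zero hne) hdvd)

end Cfsg.Agent.Lib.Helper35
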