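import Mathlib
import Cfsg.Agent.Lib.Helper99.SPU.Defs
import Cfsg.Agent.Lib.Helper35.SPUAFFCore

set_option autoImplicit false

universe u

namespace Cfsg.Agent.Lib.Helper35.SPU

open Module Cfsg.Agent.Lib.Helper99.SPU

/-- AFF : the spectrum of `V ⋊ H` -/
theorem exists_affine {F V : Type u} [Field F] [CharP F 2] [AddCommGroup V] [Module F V] [Finite V]
    [Nontrivial V] (H : Subgroup (End F V)ˣ) :
    ∃ (G : Type u) (_ : Group G) (_ : Finite G) (K : Subgroup G), K.Normal ∧ K ≠ ⊥ ∧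
      Group.IsSolvable K ∧ ∀ n : ℕ, (∃ x : G, orderOf x = n) ↔
        ∃ h ∈ H, n = orderOf h ∨ (n = 2 * orderOf h ∧ Nm (h : End F V) (orderOf h) ≠ 0) :=
  exists_affine_core H

end Cfsg.Agent.Lib.Helper35.SPU
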