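import Mathlib

set_option autoImplicit false

namespace Cfsg.Agent.Lib.Helper35.SPU

open Module LinearMap QuadraticMap

/-- transport of an isometry of exact order `K` along an isometry of quadratic spaces -/
theorem transport_core {F V V₀ : Type*} [Field F] [AddCommGroup V] [Module F V]
    [AddCommGroup V₀] [Module F V₀] (Q : QuadraticForm F V) (Q₀ : QuadraticForm F V₀)
    (e : V ≃ₗ[F] V₀) (he : ∀ v, Q₀ (e v) = Q v) (T : End F V) (hT : ∀ v, Q (T v) = Q v)
    {K : ℕ} (hK : 0 < K) (hord : ∀ j, T ^ j = 1 ↔ K ∣ j) :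
    ∃ g : (End F V₀)ˣ, (∀ v, Q₀ ((g : End F V₀) v) = Q₀ v) ∧
      finrank F (ker ((g : End F V₀) - 1)) = finrank F (ker (T - 1)) ∧ orderOf g = K ∧
      ((∑ i ∈ Finset.range K, T ^ i) ≠ 0 → (∑ i ∈ Finset.range K, (g : End F V₀) ^ i) ≠ 0) := by
  classical
  have hconj_pow : ∀ j, (e.conj T) ^ j = e.conj (T ^ j) := by
    intro j
    induction j with
    | zero => simp [LinearEquiv.conj_id, Module.End.one_eq_id]
    | succ n ih =>
      rw [pow_succ, ih, pow_succ, Module.End.mul_eq_comp, Module.End.mul_eq_comp,
        LinearEquiv.conj_comp]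
  have hone : e.conj (1 : End F V) = 1 := by
    simp [LinearEquiv.conj_id, Module.End.one_eq_id]
  have hTK : T ^ K = 1 := (hord K).2 dvd_rfl
  have hgK : (e.conj T) ^ K = 1 := by rw [hconj_pow, hTK, hone]
  refine ⟨Units.ofPowEqOne (e.conj T) K hgK hK.ne', ?_, ?_, ?_, ?_⟩
  · intro v
    rw [Units.val_ofPowEqOne, LinearEquiv.conj_apply_apply, he, hT, ← he, LinearEquiv.apply_symm_apply]
  · rw [Units.val_ofPowEqOne]
    have hker : ker (e.conj T - 1) = (ker (T - 1)).map (e : V →ₗ[F] V₀) := by
      ext w
      simp only [LinearMap.mem_ker, LinearMap.sub_apply, Module.End.one_apply,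
        LinearEquiv.conj_apply_apply, Submodule.mem_map]
      constructor
      · intro h
        refine ⟨e.symm w, ?_, by simp⟩
        apply e.injective
        rw [map_sub, map_zero, LinearEquiv.apply_symm_apply]
        exact h
      · rintro ⟨v, hv, rfl⟩
        have : e.symm ((e : V →ₗ[F] V₀) v) = v := by simp
        rw [this]
        change e (T v) - e v = 0
        rw [← map_sub, hv, map_zero]
    rw [hker]
    exact LinearEquiv.finrank_map_eq e _
  · apply Nat.dvd_antisymm
    · apply orderOf_dvd_of_pow_eq_one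
      apply Units.ext
      rw [Units.val_pow_eq_pow_val, Units.val_ofPowEqOne, hgK, Units.val_one]
    · rw [← hord]
      have h1 := pow_orderOf_eq_one (Units.ofPowEqOne (e.conj T) K hgK hK.ne')
      have h2 := congrArg Units.val h1
      rw [Units.val_pow_eq_pow_val, Units.val_ofPowEqOne, Units.val_one, hconj_pow, ← hone] at h2
      exact e.conj.injective h2
  · intro hne hzero
    apply hne
    rw [Units.val_ofPowEqOne] at hzero
    apply e.conj.injective
    rw [map_sum, map_zero, ← hzero]
    exact Finset.sum_congr rfl (fun i _ => (hconj_pow i).symm)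

end Cfsg.Agent.Lib.Helper35.SPU
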