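import Cfsg.Agent.Lib.Helper35.Order

/-! Order and simplicity of a presented group from certificates. -/

namespace Cfsg.Agent.Lib.Helper35

lemma walk_of_hom {K : Type*} [Group K] (val' : Nat → K) {C : Nat} {inv : Nat → Nat} {R S : List (List Nat)}
    {n : Nat} (D : PermData C inv R S n) (φ' : K →* Equiv.Perm (Fin (n + 1))) (h : ∀ c, φ' (val' c) = D.pv c)
    (s : List Nat) (hs : ∀ c ∈ s, c < C) (i : Fin (n + 1)) :
    (((φ' (wval val' s))⁻¹ i : Fin (n + 1)) : Nat) = pwalk D.pt s i.1 := by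
  rw [map_wval φ' val' D.pv h, PermData.pv, wval_permVal_inv_apply _ _ _ _ _ _ _ s hs]

def allWords (C : Nat) : List (List Nat) := (List.range C).map (fun c => [c])

lemma wsub_allWords {G : Type*} [Group G] (val : Nat → G) (C : Nat) :
    wsub val (allWords C) = Subgroup.closure {g | ∃ c, c < C ∧ val c = g} := by
  unfold wsub allWords
  congr 1
  ext g
  simp only [List.mem_map, List.mem_range, Set.mem_ofPred_eq]
  constructor
  · rintro ⟨_, ⟨c, hc, rfl⟩, rfl⟩
    exact ⟨c, hc, by simp⟩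
  · rintro ⟨c, hc, rfl⟩
    exact ⟨[c], ⟨c, hc, rfl⟩, by simp⟩

lemma map_wsub {G K : Type*} [Group G] [Group K] (Φ : G →* K) (val : Nat → G) (val' : Nat → K)
    (h : ∀ c, Φ (val c) = val' c) (W : List (List Nat)) : (wsub val W).map Φ = wsub val' W := by
  unfold wsub
  rw [MonoidHom.map_closure]
  congr 1
  ext g
  simp only [Set.mem_image, Set.mem_ofPred_eq]
  constructor
  · rintro ⟨_, ⟨s, hs, rfl⟩, rfl⟩
    exact ⟨s, hs, (map_wval Φ val val' h s).symm⟩
  · rintro ⟨s, hs, rfl⟩
    exact ⟨_, ⟨s, hs, rfl⟩, map_wval Φ val val' h s⟩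

/-- order of the presented group and faithfulness of the model. -/
theorem card_eq_and_injective {G : Type} [Group G] (I : PresIface G) {K : Type*} [Group K]
    (val' : Nat → K) (Φ : G →* K) (hΦ : ∀ c, Φ (I.val c) = val' c) (M : Nat) (hM : 0 < M)
    (hup : Finite (wsub I.val (allWords I.C)) ∧ Nat.card (wsub I.val (allWords I.C)) ≤ M)
    (hlo : M ≤ Nat.card (wsub val' (allWords I.C))) :
    Finite G ∧ Nat.card G = M ∧ Function.Injective Φ := by
  have htop : wsub I.val (allWords I.C) = ⊤ := by rw [wsub_allWords, I.hgen]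
  rw [htop] at hup
  obtain ⟨hfin, hle⟩ := hup
  have hfinG : Finite G := Finite.of_equiv _ Subgroup.topEquiv.toEquiv
  rw [Subgroup.card_top] at hle
  have hr : wsub val' (allWords I.C) = Φ.range := by
    rw [← map_wsub Φ I.val val' hΦ, htop, MonoidHom.range_eq_map]
  rw [hr] at hlo
  have h1 : Nat.card Φ.ker * Nat.card Φ.range = Nat.card G := by
    rw [← Subgroup.index_ker]; exact Subgroup.card_mul_index _
  have hkpos : 0 < Nat.card Φ.ker := Nat.card_pos
  have hk1 : Nat.card Φ.ker = 1 := by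
    by_contra hne
    have : 2 ≤ Nat.card Φ.ker := by omega
    have : 2 * Nat.card Φ.range ≤ Nat.card G := by rw [← h1]; exact Nat.mul_le_mul_right _ this
    omega
  refine ⟨hfinG, ?_, ?_⟩
  · rw [hk1, one_mul] at h1
    omega
  · rw [← MonoidHom.ker_eq_bot_iff]
    exact Subgroup.eq_bot_of_card_eq _ hk1

/-- a normal subgroup containing a word whose addition to the relators collapses the group is everything -/
theorem normal_eq_top_of_collapse {G : Type} [Group G] (I : PresIface G) (yw : List Nat)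
    (D : CertData I.C I.inv (yw :: I.R) [] 1) (N : Subgroup G) [N.Normal] (hy : wval I.val yw ∈ N) :
    N = ⊤ := by
  set π := QuotientGroup.mk' N with hπ
  set v : Nat → G ⧸ N := fun c => π (I.val c) with hv
  have hw : ∀ W, π (wval I.val W) = wval v W := map_wval π I.val v (fun _ => rfl)
  have hval1 : ∀ c, I.C ≤ c → v c = 1 := by
    intro c hc
    simp only [hv, I.hval1 c hc, map_one]
  have hinv : ∀ c, v (I.inv c) = (v c)⁻¹ := by
    intro c
    simp only [hv, I.hinv, map_inv]
  have hgen : Subgroup.closure {g | ∃ c, c < I.C ∧ v c = g} = ⊤ := by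
    have h1 : (Subgroup.closure {g | ∃ c, c < I.C ∧ I.val c = g}).map π = ⊤ := by
      rw [I.hgen]
      exact Subgroup.map_top_of_surjective π (QuotientGroup.mk'_surjective N)
    rw [← h1, MonoidHom.map_closure]
    congr 1
    ext g
    simp only [Set.mem_image, Set.mem_ofPred_eq]
    constructor
    · rintro ⟨c, hc, rfl⟩
      exact ⟨_, ⟨c, hc, rfl⟩, rfl⟩
    · rintro ⟨_, ⟨c, hc, rfl⟩, rfl⟩
      exact ⟨c, hc, rfl⟩
  have hR : ∀ b ∈ yw :: I.R, wval v b = 1 := by
    intro b hb
    rw [← hw]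
    rcases List.mem_cons.mp hb with rfl | hb
    · exact (QuotientGroup.eq_one_iff _).mpr hy
    · rw [I.hR b hb, map_one]
  obtain ⟨hfin, hle⟩ := card_quot_le (⊥ : Subgroup (G ⧸ N)) D.P D.hP D.tabs I.C D.N 1 I.inv v hval1 hinv hgen
    (fullBases I.C I.inv (yw :: I.R)) (fullSub I.inv [])
    (wval_fullBases I.C I.inv v hinv _ hR)
    (wval_fullSub ⊥ I.inv v hinv [] (by intro s hs; simp at hs))
    D.trees D.je D.pe D.rb D.mR D.cK D.hcK D.htree D.hN D.hN1 D.hlo D.hhi D.hz D.hcol D.heps D.hcount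
  have h2 : Nat.card (G ⧸ N) = Nat.card ((G ⧸ N) ⧸ (⊥ : Subgroup (G ⧸ N))) := by
    rw [Subgroup.card_eq_card_quotient_mul_card_subgroup (⊥ : Subgroup (G ⧸ N))]
    simp
  have h3 : 0 < Nat.card ((G ⧸ N) ⧸ (⊥ : Subgroup (G ⧸ N))) := Nat.card_pos
  have h4 : N.index = 1 := by
    unfold Subgroup.index
    omega
  exact Subgroup.index_eq_one.mp h4

/-- a transitive subgroup has order divisible by the degree -/
lemma card_dvd_of_transitive {G : Type*} [Group G] (N : Subgroup G) (n : Nat)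
    (φ : G →* Equiv.Perm (Fin (n + 1))) (h : ∀ i, ∃ g ∈ N, φ g 0 = i) : (n + 1) ∣ Nat.card N := by
  let _ : MulAction N (Fin (n + 1)) := MulAction.compHom _ (φ.comp N.subtype)
  have h1 : Nat.card N = Nat.card (MulAction.orbit N (0 : Fin (n + 1))) *
      Nat.card (MulAction.stabilizer N (0 : Fin (n + 1))) := by
    rw [Subgroup.card_eq_card_quotient_mul_card_subgroup (MulAction.stabilizer N (0 : Fin (n + 1)))]
    congr 1
    exact Nat.card_congr (MulAction.orbitEquivQuotientStabilizer N (0 : Fin (n + 1))).symm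
  have h2 : MulAction.orbit N (0 : Fin (n + 1)) = Set.univ := by
    ext i
    simp only [Set.mem_univ, iff_true]
    obtain ⟨g, hg, hgi⟩ := h i
    exact ⟨⟨g, hg⟩, hgi⟩
  rw [h1, h2]
  simp

/-- primitivity from the numerology of the suborbits: a normal subgroup is trivial or transitive. -/
theorem normal_trivial_or_transitive {G : Type*} [Group G] (n : Nat) (φ : G →* Equiv.Perm (Fin (n + 1)))
    (htrans : ∀ i, ∃ g, φ g 0 = i) (H : Subgroup G) (hH0 : ∀ h ∈ H, φ h 0 = 0)
    (L : Fin (n + 1) → Nat) (hL : ∀ i j, L i = L j → ∃ h ∈ H, φ h i = j)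
    (r : Nat) (hLr : ∀ i, L i < r) (cnt : Nat → Nat)
    (hcnt : ∀ k, k < r → ((Finset.univ : Finset (Fin (n + 1))).filter (fun i => L i = k)).card = cnt k)
    (hnum : ∀ J ∈ (Finset.range r).powerset, (∑ k ∈ J, cnt k) ∣ (n + 1) →
      (∑ k ∈ J, cnt k) ≤ 1 ∨ (∑ k ∈ J, cnt k) = n + 1)
    (N : Subgroup G) [hN : N.Normal] : (∀ g ∈ N, φ g = 1) ∨ (∀ i, ∃ g ∈ N, φ g 0 = i) := by
  classical
  let _ : MulAction G (Fin (n + 1)) := MulAction.compHom _ φ
  have hsmul : ∀ (g : G) (i : Fin (n + 1)), g • i = φ g i := fun _ _ => rfl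
  have : MulAction.IsPretransitive G (Fin (n + 1)) := by
    constructor
    intro x y
    obtain ⟨g, hg⟩ := htrans x
    obtain ⟨g', hg'⟩ := htrans y
    refine ⟨g' * g⁻¹, ?_⟩
    rw [hsmul, map_mul, map_inv, ← hg, ← Equiv.Perm.mul_apply, inv_mul_cancel_right, hg']
  set B : Set (Fin (n + 1)) := MulAction.orbit N (0 : Fin (n + 1)) with hB
  have hmemB : ∀ i, i ∈ B ↔ ∃ g ∈ N, φ g 0 = i := by
    intro i
    constructor
    · rintro ⟨g, rfl⟩
      exact ⟨g.1, g.2, rfl⟩
    · rintro ⟨g, hg, rfl⟩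
      exact ⟨⟨g, hg⟩, rfl⟩
  have hblock : MulAction.IsBlock G B := MulAction.IsBlock.orbit_of_normal 0
  have hdvd : B.ncard ∣ n + 1 := by
    have := hblock.ncard_dvd_card ⟨0, MulAction.mem_orbit_self _⟩
    simpa using this
  have hBH : ∀ i ∈ B, ∀ h ∈ H, φ h i ∈ B := by
    intro i hi h hh
    obtain ⟨g, hg, rfl⟩ := (hmemB i).1 hi
    rw [hmemB]
    refine ⟨h * g * h⁻¹, hN.conj_mem g hg h, ?_⟩
    have h0 : φ h⁻¹ 0 = 0 := hH0 _ (H.inv_mem hh)
    rw [map_mul, map_mul, Equiv.Perm.mul_apply, Equiv.Perm.mul_apply, h0]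
  set Bf : Finset (Fin (n + 1)) := Finset.univ.filter (fun i => i ∈ B) with hBf
  set J : Finset Nat := Bf.image L with hJ
  have hBJ : ∀ i, i ∈ Bf ↔ L i ∈ J := by
    intro i
    constructor
    · intro hi
      exact Finset.mem_image_of_mem L hi
    · intro hi
      obtain ⟨j, hj, hji⟩ := Finset.mem_image.mp hi
      obtain ⟨h, hh, rfl⟩ := hL j i hji
      simp only [hBf, Finset.mem_filter, Finset.mem_univ, true_and] at hj ⊢
      exact hBH j hj h hh
  have hJr : J ∈ (Finset.range r).powerset := by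
    rw [Finset.mem_powerset]
    intro k hk
    obtain ⟨j, _, rfl⟩ := Finset.mem_image.mp hk
    exact Finset.mem_range.mpr (hLr j)
  have hcard : Bf.card = ∑ k ∈ J, cnt k := by
    rw [Finset.card_eq_sum_card_image L Bf]
    apply Finset.sum_congr rfl
    intro k hk
    rw [← hcnt k (Finset.mem_range.mp (Finset.mem_powerset.mp hJr hk))]
    congr 1
    ext i
    simp only [Finset.mem_filter, Finset.mem_univ, true_and]
    constructor
    · rintro ⟨_, h⟩; exact h
    · intro h
      refine ⟨?_, h⟩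
      rw [hBJ, h]; exact hk
  have hncard : B.ncard = Bf.card := by
    rw [← Set.ncard_coe_finset]
    congr 1
    ext i
    simp [hBf]
  rw [hncard, hcard] at hdvd
  rcases hnum J hJr hdvd with h1 | h1
  · left
    rw [← hcard] at h1
    have hB0 : ∀ i ∈ B, i = 0 := by
      intro i hi
      have hi' : i ∈ Bf := by simp [hBf, hi]
      have h0' : (0 : Fin (n + 1)) ∈ Bf := by simp [hBf, hB, MulAction.mem_orbit_self]
      exact Finset.card_le_one.mp h1 i hi' 0 h0'
    intro g hg
    ext i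
    obtain ⟨x, rfl⟩ := htrans i
    have h2 : φ (x⁻¹ * g * x) 0 = 0 := by
      apply hB0
      rw [hmemB]
      exact ⟨_, hN.conj_mem' g hg x, rfl⟩
    rw [map_mul, map_mul, map_inv, Equiv.Perm.mul_apply, Equiv.Perm.mul_apply,
      Equiv.Perm.inv_eq_iff_eq] at h2
    rw [h2]; rfl
  · right
    rw [← hcard] at h1
    have huniv : Bf = Finset.univ := by
      apply Finset.eq_univ_of_card
      rw [h1]; simp
    intro i
    rw [← hmemB]
    have : i ∈ Bf := by rw [huniv]; exact Finset.mem_univ i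
    simpa [hBf] using this

/-- simplicity from the dichotomy for normal subgroups -/
theorem simple_of_dichotomy {G : Type*} [Group G] [Finite G] [Nontrivial G] (M : Nat) (hM : Nat.card G = M)
    (y : G) (p : Nat) (hp : p.Prime) (hy : y ^ p = 1)
    (hcol : ∀ N : Subgroup G, N.Normal → y ∈ N → N = ⊤)
    (hdich : ∀ N : Subgroup G, N.Normal → N = ⊥ ∨ ∃ d, d ∣ Nat.card N ∧ ¬ p ∣ M / d) :
    IsSimpleGroup G := by
  constructor
  intro N hN
  rcases hdich N hN with h | ⟨d, hd1, hd2⟩
  · exact Or.inl h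
  · right
    apply hcol N hN
    have hMpos : 0 < M := by rw [← hM]; exact Nat.card_pos
    have h1 : Nat.card N * N.index = M := by rw [← hM]; exact Subgroup.card_mul_index N
    obtain ⟨k, hk⟩ := hd1
    have hdpos : 0 < d := by
      rcases Nat.eq_zero_or_pos d with rfl | h
      · rw [hk] at h1; simp at h1; omega
      · exact h
    have h2 : M / d = k * N.index := by
      rw [← h1, hk, Nat.mul_assoc, Nat.mul_div_cancel_left _ hdpos]
    have h3 : ¬ p ∣ N.index := fun h => hd2 (h2 ▸ Dvd.dvd.mul_left h k)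
    have h4 : ((y : G ⧸ N)) ^ p = 1 := by
      rw [← QuotientGroup.mk_pow, hy]; rfl
    have h5 : ((y : G ⧸ N)) ^ N.index = 1 := by
      unfold Subgroup.index
      exact pow_card_eq_one'
    have h6 : orderOf (y : G ⧸ N) ∣ Nat.gcd p N.index :=
      Nat.dvd_gcd (orderOf_dvd_of_pow_eq_one h4) (orderOf_dvd_of_pow_eq_one h5)
    have h7 : Nat.gcd p N.index = 1 := (Nat.Prime.coprime_iff_not_dvd hp).mpr h3
    rw [h7, Nat.dvd_one, orderOf_eq_one_iff] at h6
    exact (QuotientGroup.eq_one_iff y).mp h6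

end Cfsg.Agent.Lib.Helper35
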