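import Mathlib

/-! Packed tables inside natural numbers, and the time-checked table step. -/

namespace Cfsg.Agent.Lib.Helper35

/-- Numeric parameters of a packed table: entry width `M`, node id width `tb`, and masks. -/
structure Par where
  M : Nat
  tb : Nat
  mE : Nat
  mT : Nat
  mS : Nat
  top : Nat

structure Par.WF (P : Par) : Prop where
  hE : P.mE = 2 ^ P.M - 1
  hT : P.mT = 2 ^ P.tb - 1
  hS : P.mS = P.mT ||| 2 ^ P.M
  htop : P.top = 2 ^ P.M
  hle : P.tb ≤ P.M

def ent (P : Par) (A v : Nat) : Nat := Nat.land (Nat.shiftRight A (Nat.mul v P.M)) P.mE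

def step (P : Par) (A off v : Nat) : Nat := Nat.land (Nat.add (ent P A v) off) P.mS

def tgt (P : Par) (A v : Nat) : Nat := Nat.land (ent P A v) P.mT

def tim (P : Par) (A v : Nat) : Nat := ent P A v / 2 ^ P.tb

variable {P : Par}

lemma ent_eq (hP : P.WF) (A v : Nat) : ent P A v = (A >>> (v * P.M)) % 2 ^ P.M := by
  unfold ent
  rw [hP.hE]
  exact Nat.and_two_pow_sub_one_eq_mod _ _

lemma ent_lt (hP : P.WF) (A v : Nat) : ent P A v < 2 ^ P.M := by
  rw [ent_eq hP]
  exact Nat.mod_lt _ (by positivity)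

lemma tgt_eq (hP : P.WF) (A v : Nat) : tgt P A v = ent P A v % 2 ^ P.tb := by
  unfold tgt
  rw [hP.hT]
  exact Nat.and_two_pow_sub_one_eq_mod _ _

lemma tgt_lt (hP : P.WF) (A v : Nat) : tgt P A v < 2 ^ P.tb := by
  rw [tgt_eq hP]
  exact Nat.mod_lt _ (by positivity)

lemma ent_decomp (hP : P.WF) (A v : Nat) : ent P A v = tim P A v * 2 ^ P.tb + tgt P A v := by
  rw [tgt_eq hP, tim]
  exact (Nat.div_add_mod' _ _).symm

lemma tim_mul_le (hP : P.WF) (A v : Nat) : tim P A v * 2 ^ P.tb ≤ 2 ^ P.M := by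
  have h1 := ent_lt hP A v
  have h2 := ent_decomp hP A v
  omega

/-- the offset computed from a slot's own entry -/
lemma own_off (hP : P.WF) (A v : Nat) :
    Nat.sub (Nat.add P.top (tgt P A v)) (ent P A v) = 2 ^ P.M - tim P A v * 2 ^ P.tb := by
  have h2 := ent_decomp hP A v
  have h3 := tim_mul_le hP A v
  show P.top + tgt P A v - ent P A v = _
  rw [hP.htop]
  omega

lemma ent_zero_of_hi (hP : P.WF) (A N v : Nat) (hhi : Nat.shiftRight A (P.M * (N + 1)) = 0) (hv : N < v) :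
    ent P A v = 0 := by
  rw [ent_eq hP]
  have h1 : v * P.M = P.M * (N + 1) + (v - (N + 1)) * P.M := by
    have : v = (N + 1) + (v - (N + 1)) := by omega
    conv_lhs => rw [this]
    ring
  have h2 : A >>> (P.M * (N + 1)) = 0 := hhi
  rw [h1, Nat.shiftRight_add, h2]
  simp

lemma ent_zero_of_lo (A : Nat) (hlo : Nat.land A P.mE = 0) : ent P A 0 = 0 := by
  unfold ent
  simpa using hlo

lemma step_spec (hP : P.WF) (A t v : Nat) (ht : t * 2 ^ P.tb ≤ 2 ^ P.M)
    (h0 : step P A (2 ^ P.M - t * 2 ^ P.tb) v ≠ 0) (h1 : step P A (2 ^ P.M - t * 2 ^ P.tb) v < 2 ^ P.tb) :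
    step P A (2 ^ P.M - t * 2 ^ P.tb) v = tgt P A v ∧ tim P A v < t := by
  set off := 2 ^ P.M - t * 2 ^ P.tb with hoff
  set e := ent P A v with he
  have hlt : e < 2 ^ P.M := ent_lt hP A v
  set q := e + off with hq
  have hstep : step P A off v = (q % 2 ^ P.tb) ||| (q &&& 2 ^ P.M) := by
    show Nat.land (Nat.add e off) P.mS = _
    rw [hP.hS, hP.hT]
    show q &&& (2 ^ P.tb - 1 ||| 2 ^ P.M) = _
    rw [Nat.and_or_distrib_left, Nat.and_two_pow_sub_one_eq_mod]
  have hpow : 2 ^ P.tb ≤ 2 ^ P.M := Nat.pow_le_pow_right (by norm_num) hP.hle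
  have hbit : q &&& 2 ^ P.M < 2 ^ P.M := by
    have : q &&& 2 ^ P.M ≤ step P A off v := by rw [hstep]; exact Nat.right_le_or
    omega
  have hqlt : q < 2 ^ P.M := by
    by_contra hcon
    rw [not_lt] at hcon
    have hq2 : q < 2 * 2 ^ P.M := by omega
    have hdiv : q / 2 ^ P.M = 1 := by
      apply Nat.div_eq_of_lt_le <;> omega
    have htb : q.testBit P.M = true := by
      rw [Nat.testBit_eq_decide_div_mod_eq, hdiv]
      simp
    rw [Nat.and_two_pow, htb] at hbit
    simp at hbit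
  have hbit0 : q &&& 2 ^ P.M = 0 := by
    have htb : q.testBit P.M = false := Nat.testBit_lt_two_pow hqlt
    rw [Nat.and_two_pow, htb]
    simp
  have hdvd : 2 ^ P.tb ∣ off := by
    rw [hoff]
    apply Nat.dvd_sub
    · exact Nat.pow_dvd_pow 2 hP.hle
    · exact Dvd.intro_left _ rfl
  constructor
  · rw [hstep, hbit0, Nat.or_zero, tgt_eq hP, hq]
    obtain ⟨k, hk⟩ := hdvd
    rw [hk, Nat.add_mul_mod_self_left]
  · have h3 : e < t * 2 ^ P.tb := by omega
    show e / 2 ^ P.tb < t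
    exact Nat.div_lt_of_lt_mul (by rwa [Nat.mul_comm] at h3)

end Cfsg.Agent.Lib.Helper35
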