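import Cfsg.Agent.Lib.Helper35.TCBits

/-! Static, time-stamped coset enumeration certificates: checker and soundness. -/

namespace Cfsg.Agent.Lib.Helper35

def walk (P : Par) (tabs : Nat → Nat) : List Nat → Nat → Nat → Nat
  | [], _, v => v
  | l :: W, off, v => walk P tabs W off (step P (tabs l) off v)

structure Leaf (wk : List Nat → Nat → Nat → Nat) where
  W1 : List Nat
  W2 : List Nat
  bidx : Nat
  rot : Nat
  f1 : Nat → Nat → Nat
  f2 : Nat → Nat → Nat
  zf : Nat → Nat → Nat → Nat
  hf1 : ∀ off v, f1 off v = wk W1 off v
  hf2 : ∀ off v, f2 off v = wk W2 off v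

inductive RTree (wk : List Nat → Nat → Nat → Nat) where
  | fork (r : Leaf wk) : RTree wk
  | sub (r : Leaf wk) : RTree wk
  | tleaf : RTree wk
  | node (k : Nat) (L R : RTree wk) : RTree wk

variable {wk : List Nat → Nat → Nat → Nat}

/-- run the justification selected by `rid`. Arguments: rid v u off p. -/
noncomputable def RTree.run (pe : Nat → Nat) (cK l : Nat) (t : RTree wk) :
    Nat → Nat → Nat → Nat → Nat → Bool :=
  RTree.rec (motive := fun _ => Nat → Nat → Nat → Nat → Nat → Bool)
    (fun r _ v u off p =>
      Bool.rec false (Nat.beq (r.f2 off (r.zf v u p)) u) (Nat.beq (r.f1 off (r.zf v u p)) v))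
    (fun r _ v u off _ =>
      Bool.rec false (Nat.beq (r.f2 off 1) u) (Nat.beq (r.f1 off 1) v))
    (fun _ v u _ _ =>
      Bool.rec false (Nat.ble (Nat.succ v) u) (Nat.beq (pe u) (Nat.add (Nat.mul v cK) l)))
    (fun k _ _ ihL ihR rid v u off p =>
      Bool.rec (ihL rid v u off p) (ihR rid v u off p) (Nat.ble k rid))
    t

noncomputable def chkSlot (P : Par) (A : Nat) (je pe : Nat → Nat) (rb mR cK : Nat) (dead : Nat → Bool)
    (bd : Nat → Nat) (tree : RTree wk) (l v : Nat) : Bool :=
  match Nat.beq (tgt P A v) 0 with
  | true => dead v
  | false =>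
    match Nat.ble (tgt P A v) (bd v) with
    | false => false
    | true => tree.run pe cK l (Nat.land (je v) mR) v (tgt P A v)
        (Nat.sub (Nat.add P.top (tgt P A v)) (ent P A v)) (Nat.shiftRight (je v) rb)

/-- `f (m+1)` holds for all `m < N`. -/
noncomputable def allSlots (f : Nat → Bool) (N : Nat) : Bool :=
  Nat.rec true (fun m ih => match f (Nat.succ m) with | true => ih | false => false) N

lemma allSlots_spec (f : Nat → Bool) (N : Nat) (h : allSlots f N = true) :
    ∀ v, 1 ≤ v → v ≤ N → f v = true := by
  induction N with
  | zero => intro v h1 h2; omega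
  | succ m ih =>
    have hs : allSlots f (m + 1) = (match f (Nat.succ m) with | true => allSlots f m | false => false) := rfl
    rw [hs] at h
    intro v h1 h2
    cases hf : f (Nat.succ m) with
    | false => rw [hf] at h; simp at h
    | true =>
      rw [hf] at h
      rcases Nat.lt_or_ge v (m + 1) with hlt | hge
      · exact ih h v h1 (by omega)
      · have : v = m + 1 := by omega
        rw [this]; exact hf

/-- number of `v ∈ [1, N]` with `f v = true`. -/
noncomputable def countSlots (f : Nat → Bool) (N : Nat) : Nat :=
  Nat.rec 0 (fun m ih => match f (Nat.succ m) with | true => Nat.succ ih | false => ih) N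

lemma countSlots_spec (f : Nat → Bool) (N : Nat) :
    countSlots f N = ((Finset.Icc 1 N).filter (fun v => f v = true)).card := by
  induction N with
  | zero => simp [countSlots]
  | succ m ih =>
    have hs : countSlots f (m + 1) =
      (match f (Nat.succ m) with | true => Nat.succ (countSlots f m) | false => countSlots f m) := rfl
    rw [hs, ← Finset.insert_Icc_right_eq_Icc_add_one (by omega : 1 ≤ m + 1), Finset.filter_insert]
    cases hf : f (Nat.succ m) with
    | false =>
      have : ¬ (f (m + 1) = true) := by simp [hf]
      simp only [this, if_false]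
      exact ih
    | true =>
      have : (f (m + 1) = true) := hf
      simp only [this, if_true]
      rw [Finset.card_insert_of_notMem (by simp), ih]

/-! ### words -/

section Words

variable {G : Type*} [Group G]

def wval (val : Nat → G) (W : List Nat) : G := (W.map val).prod

@[simp] lemma wval_nil (val : Nat → G) : wval val [] = 1 := rfl
@[simp] lemma wval_cons (val : Nat → G) (l : Nat) (W : List Nat) : wval val (l :: W) = val l * wval val W := by
  simp [wval]
@[simp] lemma wval_append (val : Nat → G) (W W' : List Nat) :
    wval val (W ++ W') = wval val W * wval val W' := by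
  simp [wval]

def stripW (E : Nat) (W : List Nat) : List Nat := W.filter (fun c => !(Nat.beq c E))

def invW (inv : Nat → Nat) (W : List Nat) : List Nat := (W.map inv).reverse

def ruleWord (inv : Nat → Nat) (E l : Nat) (W1 W2 : List Nat) : List Nat :=
  stripW E (W1 ++ l :: invW inv W2)

lemma wval_stripW (val : Nat → G) (E : Nat) (hE : val E = 1) (W : List Nat) :
    wval val (stripW E W) = wval val W := by
  induction W with
  | nil => rfl
  | cons c W ih =>
    unfold stripW at ih ⊢
    rw [List.filter_cons]
    by_cases hc : c = E
    · subst hc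
      simp [hE, ih]
    · have : Nat.beq c E = false := by
        cases h : Nat.beq c E with
        | false => rfl
        | true => exact absurd (Nat.eq_of_beq_eq_true h) hc
      simp [this, ih]

lemma wval_invW (val : Nat → G) (inv : Nat → Nat) (hinv : ∀ c, val (inv c) = (val c)⁻¹) (W : List Nat) :
    wval val (invW inv W) = (wval val W)⁻¹ := by
  induction W with
  | nil => simp [invW]
  | cons c W ih =>
    unfold invW at ih ⊢
    simp only [List.map_cons, List.reverse_cons, wval_append, wval_cons, wval_nil, mul_one, ih, hinv,
      mul_inv_rev]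

lemma wval_rotate (val : Nat → G) (b : List Nat) (hb : wval val b = 1) (k : Nat) :
    wval val (b.rotate k) = 1 := by
  unfold wval at hb ⊢
  rw [List.map_rotate]
  exact List.prod_rotate_eq_one_of_prod_eq_one hb k

lemma wval_ruleWord (val : Nat → G) (inv : Nat → Nat) (E : Nat) (hE : val E = 1)
    (hinv : ∀ c, val (inv c) = (val c)⁻¹) (l : Nat) (W1 W2 : List Nat) :
    wval val (ruleWord inv E l W1 W2) = wval val W1 * val l * (wval val W2)⁻¹ := by
  unfold ruleWord
  rw [wval_stripW val E hE, wval_append, wval_cons, wval_invW val inv hinv, mul_assoc]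

end Words

/-- reflective validity check of all rules in a dispatch tree for column `l`. -/
def treeChk (inv : Nat → Nat) (E : Nat) (bases subb : List (List Nat)) (l : Nat) : RTree wk → Bool
  | .fork r => decide (ruleWord inv E l r.W1 r.W2 = (bases.getD r.bidx []).rotate r.rot)
  | .sub r => decide (ruleWord inv E l r.W1 r.W2 = subb.getD r.bidx [])
  | .tleaf => true
  | .node _ L R => treeChk inv E bases subb l L && treeChk inv E bases subb l R

end Cfsg.Agent.Lib.Helper35
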