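import Cfsg.Agent.Lib.Helper35.TCSound

/-! Main theorem: a valid certificate bounds the index of a subgroup. -/

namespace Cfsg.Agent.Lib.Helper35

def liveF (P : Par) (A v : Nat) : Bool := Nat.beq (tgt P A v) 0

def deadF (P : Par) (A v : Nat) : Bool :=
  match Nat.beq (tgt P A v) 0 with
  | true => false
  | false => true

lemma liveF_iff (P : Par) (A v : Nat) : liveF P A v = true ↔ tgt P A v = 0 := by
  unfold liveF
  constructor
  · exact Nat.eq_of_beq_eq_true
  · intro h; rw [h]; rfl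

lemma deadF_spec (P : Par) (A v : Nat) (h : deadF P A v = true) : tgt P A v ≠ 0 := by
  unfold deadF at h
  intro he
  rw [he] at h
  simp at h

theorem card_quot_le {G : Type*} [Group G] (H : Subgroup G)
    (P : Par) (hP : P.WF) (tabs : Nat → Nat) (C N n : Nat)
    (inv : Nat → Nat) (val : Nat → G)
    (hval1 : ∀ c, C ≤ c → val c = 1) (hinv : ∀ c, val (inv c) = (val c)⁻¹)
    (hgen : Subgroup.closure {g | ∃ c, c < C ∧ val c = g} = ⊤)
    (bases subb : List (List Nat)) (hbases : ∀ b ∈ bases, wval val b = 1)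
    (hsub : ∀ b ∈ subb, wval val b ∈ H)
    (trees : Nat → RTree (walk P tabs)) (je : Nat → Nat → Nat) (pe : Nat → Nat) (rb mR cK : Nat)
    (hcK : C < cK)
    (htree : ∀ l, l ≤ C → treeChk inv C bases subb l (trees l) = true)
    (hN : N < 2 ^ P.tb) (hN1 : 1 ≤ N)
    (hlo : ∀ l, l ≤ C → Nat.land (tabs l) P.mE = 0)
    (hhi : ∀ l, l ≤ C → Nat.shiftRight (tabs l) (P.M * (N + 1)) = 0)
    (hz : ∀ l, C < l → tabs l = 0)
    (hcol : ∀ l, l < C → allSlots (chkSlot P (tabs l) (je l) pe rb mR cK (deadF P (tabs C))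
      (fun _ => N) (trees l) l) N = true)
    (heps : allSlots (chkSlot P (tabs C) (je C) pe rb mR cK (fun _ => true)
      (fun v => Nat.pred v) (trees C) C) N = true)
    (hcount : countSlots (liveF P (tabs C)) N = n) :
    Finite (G ⧸ H) ∧ Nat.card (G ⧸ H) ≤ n := by
  classical
  set x0 : G ⧸ H := ((1 : G) : G ⧸ H) with hx0
  set x := nodeX val pe cK x0 with hx
  have hfix : ∀ s, s ∈ H → ra s x0 = x0 := by
    intro s hs
    show s⁻¹ • ((1 : G) : G ⧸ H) = ((1 : G) : G ⧸ H)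
    rw [MulAction.Quotient.smul_mk]
    rw [QuotientGroup.eq]
    simpa using hs
  have hrange : ∀ l v, tgt P (tabs l) v ≠ 0 → l ≤ C ∧ 1 ≤ v ∧ v ≤ N := by
    intro l v hne
    have hl : l ≤ C := by
      by_contra hl
      apply hne
      have : tabs l = 0 := hz l (by omega)
      simp [tgt, ent, this]
    refine ⟨hl, ?_, ?_⟩
    · by_contra hv
      have hv0 : v = 0 := by omega
      apply hne
      rw [hv0]
      unfold tgt
      rw [ent_zero_of_lo _ (hlo l hl)]
      simp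
    · by_contra hv
      apply hne
      unfold tgt
      rw [ent_zero_of_hi hP _ N v (hhi l hl) (by omega)]
      simp
  have hfill : ∀ l v, tgt P (tabs l) v ≠ 0 → 1 ≤ v ∧ v < 2 ^ P.tb := by
    intro l v hne
    obtain ⟨_, h1, h2⟩ := hrange l v hne
    exact ⟨h1, by omega⟩
  have hE : val C = 1 := hval1 C le_rfl
  have hok : ∀ l, l ≤ C → TreeOK val (· ∈ H) l (trees l) := fun l hl =>
    treeChk_sound inv C hE hinv bases subb (· ∈ H) hbases hsub H.one_mem l _ (htree l hl)
  have hreal : ∀ l v, l < C → 1 ≤ v → v ≤ N →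
      chkSlot P (tabs l) (je l) pe rb mR cK (deadF P (tabs C)) (fun _ => N) (trees l) l v = true :=
    fun l v hl h1 h2 => allSlots_spec _ _ (hcol l hl) v h1 h2
  have hepsS : ∀ v, 1 ≤ v → v ≤ N →
      chkSlot P (tabs C) (je C) pe rb mR cK (fun _ => true) (fun v => Nat.pred v) (trees C) C v = true :=
    fun v h1 h2 => allSlots_spec _ _ heps v h1 h2
  have hrun : ∀ l v, tgt P (tabs l) v ≠ 0 → l < cK ∧ ∃ (t : RTree (walk P tabs)) (rid p : Nat),
      TreeOK val (· ∈ H) l t ∧ t.run pe cK l rid v (tgt P (tabs l) v)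
        (Nat.sub (Nat.add P.top (tgt P (tabs l) v)) (ent P (tabs l) v)) p = true := by
    intro l v hne
    obtain ⟨hl, h1, h2⟩ := hrange l v hne
    refine ⟨by omega, trees l, Nat.land (je l v) mR, Nat.shiftRight (je l v) rb, hok l hl, ?_⟩
    rcases Nat.lt_or_ge l C with hlt | hge
    · exact ((chkSlot_spec _ _ _ _ _ _ _ _ _ _ _ (hreal l v hlt h1 h2)).2 hne).2
    · have : l = C := by omega
      subst this
      exact ((chkSlot_spec _ _ _ _ _ _ _ _ _ _ _ (hepsS v h1 h2)).2 hne).2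
  have hvalid : ∀ l v, tgt P (tabs l) v ≠ 0 → Valid P tabs val x l v := fun l v hne =>
    all_valid hP hfill pe cK x0 (· ∈ H) hfix hrun (tim P (tabs l) v + 1) l v hne (Nat.lt_succ_self _)
  have heps2 : ∀ v, tgt P (tabs C) v ≠ 0 → tgt P (tabs C) v < v := by
    intro v hne
    obtain ⟨_, h1, h2⟩ := hrange C v hne
    have := ((chkSlot_spec _ _ _ _ _ _ _ _ _ _ _ (hepsS v h1 h2)).2 hne).1
    have h3 : Nat.pred v = v - 1 := rfl
    omega
  have htgtN : ∀ l v, l < C → tgt P (tabs l) v ≠ 0 → tgt P (tabs l) v ≤ N := by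
    intro l v hl hne
    obtain ⟨_, h1, h2⟩ := hrange l v hne
    exact ((chkSlot_spec _ _ _ _ _ _ _ _ _ _ _ (hreal l v hl h1 h2)).2 hne).1
  have hcomplete : ∀ l v, l < C → 1 ≤ v → v ≤ N → tgt P (tabs C) v = 0 → tgt P (tabs l) v ≠ 0 := by
    intro l v hl h1 h2 h0 hcon
    exact deadF_spec _ _ _ ((chkSlot_spec _ _ _ _ _ _ _ _ _ _ _ (hreal l v hl h1 h2)).1 hcon) h0
  -- the set of live nodes
  set L : Finset Nat := (Finset.Icc 1 N).filter (fun v => liveF P (tabs C) v = true) with hL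
  have hLcard : L.card = n := by rw [← hcount, countSlots_spec]
  have hA : ∀ v, 1 ≤ v → v ≤ N → ∃ w ∈ L, x v = x w := by
    intro v
    induction v using Nat.strong_induction_on with
    | _ v ih =>
      intro h1 h2
      by_cases h0 : tgt P (tabs C) v = 0
      · exact ⟨v, by simp [hL, h1, h2, liveF_iff, h0], rfl⟩
      · have hlt := heps2 v h0
        obtain ⟨w, hw, hxw⟩ := ih _ hlt (by omega) (by omega)
        refine ⟨w, hw, ?_⟩
        have hv : ra (val C) (x v) = x (tgt P (tabs C) v) := hvalid C v h0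
        rw [hE, ra_one] at hv
        rw [hv, hxw]
  have hB : ∀ c, ∀ w ∈ L, ∃ w' ∈ L, ra (val c) (x w) = x w' := by
    intro c w hw
    rcases Nat.lt_or_ge c C with hc | hc
    · have hw' : (1 ≤ w ∧ w ≤ N) ∧ tgt P (tabs C) w = 0 := by
        simpa [hL, liveF_iff] using hw
      have hne := hcomplete c w hc hw'.1.1 hw'.1.2 hw'.2
      have hv : ra (val c) (x w) = x (tgt P (tabs c) w) := hvalid c w hne
      obtain ⟨w', hw1, hw2⟩ := hA _ (by omega) (htgtN c w hc hne)
      exact ⟨w', hw1, by rw [hv, hw2]⟩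
    · exact ⟨w, hw, by rw [hval1 c hc, ra_one]⟩
  have hQ : ∀ g : G, (∀ w ∈ L, ∃ w' ∈ L, g • x w = x w') ∧ (∀ w ∈ L, ∃ w' ∈ L, g⁻¹ • x w = x w') := by
    intro g
    have hg : g ∈ Subgroup.closure {g | ∃ c, c < C ∧ val c = g} := by rw [hgen]; trivial
    induction hg using Subgroup.closure_induction with
    | mem g hg =>
      obtain ⟨c, _, rfl⟩ := hg
      constructor
      · intro w hw
        obtain ⟨w', h1, h2⟩ := hB (inv c) w hw
        refine ⟨w', h1, ?_⟩
        rw [← h2, hinv]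
        simp [ra]
      · intro w hw
        exact hB c w hw
    | one => exact ⟨fun w hw => ⟨w, hw, by simp⟩, fun w hw => ⟨w, hw, by simp⟩⟩
    | mul a b _ _ iha ihb =>
      constructor
      · intro w hw
        obtain ⟨w1, h1, h2⟩ := ihb.1 w hw
        obtain ⟨w2, h3, h4⟩ := iha.1 w1 h1
        exact ⟨w2, h3, by rw [mul_smul, h2, h4]⟩
      · intro w hw
        obtain ⟨w1, h1, h2⟩ := iha.2 w hw
        obtain ⟨w2, h3, h4⟩ := ihb.2 w1 h1
        exact ⟨w2, h3, by rw [mul_inv_rev, mul_smul, h2, h4]⟩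
    | inv a _ iha => exact ⟨iha.2, by simpa using iha.1⟩
  have hx1 : x 1 = x0 := by
    rw [hx, nodeX]; simp
  have hsurj : Function.Surjective (fun w : L => x w.1) := by
    intro y
    obtain ⟨g, rfl⟩ := QuotientGroup.mk_surjective y
    obtain ⟨w0, hw0, hxw0⟩ := hA 1 le_rfl hN1
    obtain ⟨w', h1, h2⟩ := (hQ g).1 w0 hw0
    refine ⟨⟨w', h1⟩, ?_⟩
    show x w' = _
    rw [← h2, ← hxw0, hx1, hx0, MulAction.Quotient.smul_mk]
    simp
  refine ⟨Finite.of_surjective _ hsurj, ?_⟩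
  calc Nat.card (G ⧸ H) ≤ Nat.card L := Nat.card_le_card_of_surjective _ hsurj
    _ = n := by rw [Nat.card_eq_fintype_card, Fintype.card_coe, hLcard]

end Cfsg.Agent.Lib.Helper35
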