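import Cfsg.Agent.Lib.Helper35.TCCore

/-! Soundness of the certificate checker. -/

namespace Cfsg.Agent.Lib.Helper35

section Sound

variable {G : Type*} [Group G] {X : Type*} [MulAction G X]

/-- right action -/
def ra (g : G) (y : X) : X := g⁻¹ • y

lemma ra_one (y : X) : ra (1 : G) y = y := by simp [ra]

lemma ra_mul (a b : G) (y : X) : ra (a * b) y = ra b (ra a y) := by
  simp [ra, mul_smul]

noncomputable def nodeX (val : Nat → G) (pe : Nat → Nat) (cK : Nat) (x0 : X) : Nat → X
  | v => if h : 2 ≤ v ∧ pe v / cK < v then ra (val (pe v % cK)) (nodeX val pe cK x0 (pe v / cK)) else x0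
termination_by v => v
decreasing_by exact h.2

variable (P : Par) (tabs : Nat → Nat) (val : Nat → G) (x : Nat → X)

def Valid (l v : Nat) : Prop := ra (val l) (x v) = x (tgt P (tabs l) v)

def InvT (t : Nat) : Prop :=
  ∀ l v, tgt P (tabs l) v ≠ 0 → tim P (tabs l) v < t → Valid P tabs val x l v

variable {P tabs val x}

lemma walk_sound (hP : P.WF) (hfill : ∀ l v, tgt P (tabs l) v ≠ 0 → 1 ≤ v ∧ v < 2 ^ P.tb)
    (t : Nat) (ht : t * 2 ^ P.tb ≤ 2 ^ P.M) (hI : InvT P tabs val x t) :
    ∀ (W : List Nat) (v u : Nat), walk P tabs W (2 ^ P.M - t * 2 ^ P.tb) v = u → 1 ≤ u → u < 2 ^ P.tb →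
      ra (wval val W) (x v) = x u ∧ (1 ≤ v ∧ v < 2 ^ P.tb) := by
  intro W
  induction W with
  | nil =>
    intro v u h h1 h2
    have : v = u := h
    subst this
    exact ⟨by simp [ra_one], h1, h2⟩
  | cons l W ih =>
    intro v u h h1 h2
    have h' : walk P tabs W (2 ^ P.M - t * 2 ^ P.tb) (step P (tabs l) (2 ^ P.M - t * 2 ^ P.tb) v) = u := h
    obtain ⟨e1, r1, r2⟩ := ih _ _ h' h1 h2
    obtain ⟨s1, s2⟩ := step_spec hP (tabs l) t v ht (by omega) r2
    have hne : tgt P (tabs l) v ≠ 0 := by rw [← s1]; omega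
    have hv := hI l v hne s2
    refine ⟨?_, hfill l v hne⟩
    rw [wval_cons, ra_mul, hv, ← s1, e1]

variable {wk : List Nat → Nat → Nat → Nat}

def TreeOK (val : Nat → G) (fix : G → Prop) (l : Nat) : RTree wk → Prop
  | .fork r => wval val r.W1 * val l = wval val r.W2
  | .sub r => ∃ s, fix s ∧ wval val r.W1 * val l = s * wval val r.W2
  | .tleaf => True
  | .node _ L R => TreeOK val fix l L ∧ TreeOK val fix l R

lemma treeChk_sound (inv : Nat → Nat) (E : Nat) (hE : val E = 1) (hinv : ∀ c, val (inv c) = (val c)⁻¹)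
    (bases subb : List (List Nat)) (fix : G → Prop) (hb : ∀ b ∈ bases, wval val b = 1)
    (hs : ∀ b ∈ subb, fix (wval val b)) (hfix1 : fix 1) (l : Nat) (t : RTree wk)
    (h : treeChk inv E bases subb l t = true) : TreeOK val fix l t := by
  induction t with
  | fork r =>
    have h1 : ruleWord inv E l r.W1 r.W2 = (bases.getD r.bidx []).rotate r.rot := by
      simpa [treeChk] using h
    have h2 : wval val (bases.getD r.bidx []) = 1 := by
      rw [List.getD_eq_getElem?_getD]
      cases hg : bases[r.bidx]? with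
      | none => simp
      | some b => simpa using hb b (List.mem_of_getElem? hg)
    have h3 := wval_ruleWord val inv E hE hinv l r.W1 r.W2
    rw [h1, wval_rotate val _ h2] at h3
    show wval val r.W1 * val l = wval val r.W2
    exact (mul_inv_eq_one.mp h3.symm)
  | sub r =>
    have h1 : ruleWord inv E l r.W1 r.W2 = subb.getD r.bidx [] := by
      simpa [treeChk] using h
    have h2 : fix (wval val (subb.getD r.bidx [])) := by
      rw [List.getD_eq_getElem?_getD]
      cases hg : subb[r.bidx]? with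
      | none => simpa using hfix1
      | some b => simpa using hs b (List.mem_of_getElem? hg)
    have h3 := wval_ruleWord val inv E hE hinv l r.W1 r.W2
    rw [h1] at h3
    refine ⟨_, h2, ?_⟩
    rw [h3]
    group
  | tleaf => trivial
  | node k L R ihL ihR =>
    have : treeChk inv E bases subb l L = true ∧ treeChk inv E bases subb l R = true := by
      simpa [treeChk] using h
    exact ⟨ihL this.1, ihR this.2⟩

lemma boolrec_and {a b : Bool} (h : (Bool.rec false b a : Bool) = true) : a = true ∧ b = true := by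
  cases a with
  | false => exact absurd h (by simp)
  | true => exact ⟨rfl, h⟩

end Sound

section Sound2

variable {G : Type*} [Group G] {X : Type*} [MulAction G X]
variable {P : Par} {tabs : Nat → Nat} {val : Nat → G}

lemma run_sound (hP : P.WF) (hfill : ∀ l v, tgt P (tabs l) v ≠ 0 → 1 ≤ v ∧ v < 2 ^ P.tb)
    (pe : Nat → Nat) (cK : Nat) (x0 : X) (fix : G → Prop) (hfix : ∀ s, fix s → ra s x0 = x0)
    (l v : Nat) (hl : l < cK) (hne : tgt P (tabs l) v ≠ 0)
    (hI : InvT P tabs val (nodeX val pe cK x0) (tim P (tabs l) v))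
    (t : RTree (walk P tabs)) (ht : TreeOK val fix l t) (rid p : Nat)
    (h : t.run pe cK l rid v (tgt P (tabs l) v)
      (Nat.sub (Nat.add P.top (tgt P (tabs l) v)) (ent P (tabs l) v)) p = true) :
    Valid P tabs val (nodeX val pe cK x0) l v := by
  rw [own_off hP] at h
  have hv := hfill l v hne
  have hu1 : 1 ≤ tgt P (tabs l) v := by omega
  have hu2 := tgt_lt hP (tabs l) v
  have htm := tim_mul_le hP (tabs l) v
  induction t generalizing rid with
  | fork r =>
    obtain ⟨a1, a2⟩ := boolrec_and h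
    have b1 := Nat.eq_of_beq_eq_true a1
    have b2 := Nat.eq_of_beq_eq_true a2
    rw [r.hf1] at b1
    rw [r.hf2] at b2
    obtain ⟨c1, -⟩ := walk_sound hP hfill _ htm hI _ _ _ b1 hv.1 hv.2
    obtain ⟨c2, -⟩ := walk_sound hP hfill _ htm hI _ _ _ b2 hu1 hu2
    have hr : wval val r.W1 * val l = wval val r.W2 := ht
    show ra (val l) _ = _
    rw [← c1, ← ra_mul, hr, c2]
  | sub r =>
    obtain ⟨a1, a2⟩ := boolrec_and h
    have b1 := Nat.eq_of_beq_eq_true a1
    have b2 := Nat.eq_of_beq_eq_true a2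
    rw [r.hf1] at b1
    rw [r.hf2] at b2
    obtain ⟨c1, -⟩ := walk_sound hP hfill _ htm hI _ _ _ b1 hv.1 hv.2
    obtain ⟨c2, -⟩ := walk_sound hP hfill _ htm hI _ _ _ b2 hu1 hu2
    obtain ⟨s, hs, hr⟩ : ∃ s, fix s ∧ wval val r.W1 * val l = s * wval val r.W2 := ht
    have hx1 : nodeX val pe cK x0 1 = x0 := by
      rw [nodeX]; simp
    rw [hx1] at c1 c2
    show ra (val l) _ = _
    rw [← c1, ← ra_mul, hr, ra_mul, hfix s hs, c2]
  | tleaf =>
    obtain ⟨a1, a2⟩ := boolrec_and h
    have b1 : pe (tgt P (tabs l) v) = v * cK + l := Nat.eq_of_beq_eq_true a1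
    have b2 : v + 1 ≤ tgt P (tabs l) v := Nat.le_of_ble_eq_true a2
    have d1 : pe (tgt P (tabs l) v) / cK = v := by
      rw [b1, Nat.mul_comm, Nat.mul_add_div (by omega), Nat.div_eq_of_lt hl, Nat.add_zero]
    have d2 : pe (tgt P (tabs l) v) % cK = l := by
      rw [b1, Nat.mul_comm, Nat.mul_add_mod, Nat.mod_eq_of_lt hl]
    show ra (val l) _ = _
    conv_rhs => rw [nodeX]
    rw [dif_pos (by rw [d1]; omega), d1, d2]
  | node k L R ihL ihR =>
    have h' : (Bool.rec (L.run pe cK l rid v (tgt P (tabs l) v) (2 ^ P.M - tim P (tabs l) v * 2 ^ P.tb) p)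
      (R.run pe cK l rid v (tgt P (tabs l) v) (2 ^ P.M - tim P (tabs l) v * 2 ^ P.tb) p) (Nat.ble k rid) : Bool)
        = true := h
    cases hk : Nat.ble k rid with
    | false => rw [hk] at h'; exact ihL ht.1 rid h'
    | true => rw [hk] at h'; exact ihR ht.2 rid h'

lemma chkSlot_spec {wk} (A : Nat) (je pe : Nat → Nat) (rb mR cK : Nat) (dead : Nat → Bool)
    (bd : Nat → Nat) (tree : RTree wk) (l v : Nat)
    (h : chkSlot P A je pe rb mR cK dead bd tree l v = true) :
    (tgt P A v = 0 → dead v = true) ∧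
    (tgt P A v ≠ 0 → tgt P A v ≤ bd v ∧ tree.run pe cK l (Nat.land (je v) mR) v (tgt P A v)
        (Nat.sub (Nat.add P.top (tgt P A v)) (ent P A v)) (Nat.shiftRight (je v) rb) = true) := by
  unfold chkSlot at h
  cases h0 : Nat.beq (tgt P A v) 0 with
  | true =>
    rw [h0] at h
    have := Nat.eq_of_beq_eq_true h0
    exact ⟨fun _ => h, fun hne => absurd this hne⟩
  | false =>
    rw [h0] at h
    have hne : tgt P A v ≠ 0 := by
      intro he
      rw [he] at h0
      simp at h0
    refine ⟨fun he => absurd he hne, fun _ => ?_⟩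
    cases h1 : Nat.ble (tgt P A v) (bd v) with
    | false => rw [h1] at h; simp at h
    | true =>
      rw [h1] at h
      exact ⟨Nat.le_of_ble_eq_true h1, h⟩

/-- all filled slots are valid. -/
lemma all_valid (hP : P.WF) (hfill : ∀ l v, tgt P (tabs l) v ≠ 0 → 1 ≤ v ∧ v < 2 ^ P.tb)
    (pe : Nat → Nat) (cK : Nat) (x0 : X) (fix : G → Prop) (hfix : ∀ s, fix s → ra s x0 = x0)
    (hrun : ∀ l v, tgt P (tabs l) v ≠ 0 → l < cK ∧ ∃ (t : RTree (walk P tabs)) (rid p : Nat),
      TreeOK val fix l t ∧ t.run pe cK l rid v (tgt P (tabs l) v)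
        (Nat.sub (Nat.add P.top (tgt P (tabs l) v)) (ent P (tabs l) v)) p = true) :
    ∀ t, InvT P tabs val (nodeX val pe cK x0) t := by
  intro t
  induction t with
  | zero => intro l v _ h; omega
  | succ t ih =>
    intro l v hne hlt
    obtain ⟨hl, tr, rid, p, hok, hr⟩ := hrun l v hne
    refine run_sound hP hfill pe cK x0 fix hfix l v hl hne ?_ tr hok rid p hr
    intro l' v' hne' hlt'
    exact ih l' v' hne' (by omega)

end Sound2

end Cfsg.Agent.Lib.Helper35
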